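import Mathlib.RingTheory.HopfAlgebra.Convolution
import Mathlib.RingTheory.HopfAlgebra.TensorProduct
import Mathlib.RingTheory.Coalgebra.Convolution

/-!
Restriction of convolution powers along the base change `A → S ⊗ A`.
-/

open TensorProduct Coalgebra WithConv

namespace Groth.Agent.OT

variable {R : Type*} [CommRing R] {S : Type*} [CommRing S] [Algebra R S]
  {A : Type*} [CommRing A] [Bialgebra R A]
  {T : Type*} [CommRing T] [Algebra R T] [Algebra S T] [IsScalarTower R S T]

/-- Restriction of linear maps on the base change. -/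
noncomputable def res (f : WithConv (S ⊗[R] A →ₗ[S] T)) : WithConv (A →ₗ[R] T) :=
  toConv ((f.ofConv.restrictScalars R) ∘ₗ (TensorProduct.mk R S A 1))

@[simp] lemma res_apply (f : WithConv (S ⊗[R] A →ₗ[S] T)) (a : A) :
    res f a = f (1 ⊗ₜ a) := rfl

variable (S) in
lemma comul_one_tmul (a : A) {ι : Type*} (r : Coalgebra.Repr R a ι) :
    comul (R := S) ((1 : S) ⊗ₜ[R] a) =
      ∑ i ∈ r.index, ((1 : S) ⊗ₜ[R] r.left i) ⊗ₜ[S] ((1 : S) ⊗ₜ[R] r.right i) := by
  rw [TensorProduct.comul_tmul, ← r.eq]
  simp [TensorProduct.tmul_sum, map_sum, Algebra.TensorProduct.one_def]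

variable (S) in
lemma counit_one_tmul (a : A) :
    counit (R := S) ((1 : S) ⊗ₜ[R] a) = algebraMap R S (counit a) := by
  simp [Algebra.algebraMap_eq_smul_one]

lemma res_mul (f g : WithConv (S ⊗[R] A →ₗ[S] T)) : res (f * g) = res f * res g := by
  ext a
  rw [res_apply, (ℛ R a).convMul_apply, LinearMap.convMul_apply, comul_one_tmul S a (ℛ R a)]
  simp [map_sum]

lemma res_one : res (1 : WithConv (S ⊗[R] A →ₗ[S] T)) = 1 := by
  ext a
  rw [res_apply, LinearMap.convOne_apply, LinearMap.convOne_apply, counit_one_tmul,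
    ← IsScalarTower.algebraMap_apply]

/-- `res` as a ring homomorphism. -/
noncomputable def resHom : WithConv (S ⊗[R] A →ₗ[S] T) →+* WithConv (A →ₗ[R] T) where
  toFun := res
  map_one' := res_one
  map_mul' := res_mul
  map_zero' := by ext a; simp
  map_add' f g := by ext a; simp

@[simp] lemma resHom_apply (f : WithConv (S ⊗[R] A →ₗ[S] T)) (a : A) :
    resHom f a = f (1 ⊗ₜ a) := rfl

lemma res_injective : Function.Injective (resHom : WithConv (S ⊗[R] A →ₗ[S] T) →+* _) := by
  intro f g h
  apply WithConv.ofConv_injective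
  refine LinearMap.restrictScalars_injective R ?_
  refine TensorProduct.ext' fun s a => ?_
  have := congrArg (fun q : WithConv (A →ₗ[R] T) => q a) h
  simp only [resHom_apply] at this
  simp only [LinearMap.restrictScalars_apply]
  rw [← mul_one s, ← smul_eq_mul, ← TensorProduct.smul_tmul', map_smul, map_smul, this]

/-- Post-composition with an algebra map, as a ring homomorphism. -/
noncomputable def postHom {T' : Type*} [CommRing T'] [Algebra R T'] (φ : T →ₐ[R] T') :
    WithConv (A →ₗ[R] T) →+* WithConv (A →ₗ[R] T') where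
  toFun f := toConv (φ.toLinearMap ∘ₗ f.ofConv)
  map_one' := by ext a; simp
  map_mul' f g := by
    apply WithConv.ofConv_injective
    simpa using LinearMap.algHom_comp_convMul_distrib φ f g
  map_zero' := by ext a; simp
  map_add' f g := by ext a; simp

@[simp] lemma postHom_apply {T' : Type*} [CommRing T'] [Algebra R T'] (φ : T →ₐ[R] T')
    (f : WithConv (A →ₗ[R] T)) (a : A) : postHom φ f a = φ (f a) := rfl

/-- The point `1 ⊗ a` and powers of the identity. -/
lemma powId_one_tmul (n : ℕ) (a : A) :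
    ((toConv (AlgHom.id S (S ⊗[R] A)) ^ n : WithConv (S ⊗[R] A →ₐ[S] S ⊗[R] A))) (1 ⊗ₜ[R] a) =
      1 ⊗ₜ[R] ((toConv (AlgHom.id R A) ^ n : WithConv (A →ₐ[R] A)) a) := by
  have h1 := AlgHom.toLinearMap_convPow (toConv (AlgHom.id S (S ⊗[R] A))) n
  have h2 := AlgHom.toLinearMap_convPow (toConv (AlgHom.id R A)) n
  have e1 : resHom (toConv (LinearMap.id : S ⊗[R] A →ₗ[S] S ⊗[R] A)) =
      postHom (Algebra.TensorProduct.includeRight : A →ₐ[R] S ⊗[R] A) (toConv LinearMap.id) := by
    ext b; simp
  have := congrArg (fun q : WithConv (A →ₗ[R] S ⊗[R] A) => q a) (congrArg (· ^ n) e1)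
  simp only [← map_pow, resHom_apply, postHom_apply, Algebra.TensorProduct.includeRight_apply] at this
  rw [show (toConv (LinearMap.id : S ⊗[R] A →ₗ[S] S ⊗[R] A)) ^ n = _ from h1.symm,
    show (toConv (LinearMap.id : A →ₗ[R] A)) ^ n = _ from h2.symm] at this
  exact this

end Groth.Agent.OT
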