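import Mathlib.FieldTheory.Finite.Basic
import Mathlib.RingTheory.IntegralDomain
import Mathlib.Algebra.Algebra.Basic
import Mathlib.Algebra.Ring.GeomSum
import Mathlib.GroupTheory.SpecificGroups.Cyclic
import Mathlib.RingTheory.Idempotents

/-!
Averaging idempotents for characters of the units of `ZMod p`.
-/

namespace Groth.Agent.OT

variable {p : ℕ} [hp : Fact p.Prime] {R : Type*} [CommRing R] {χ : (ZMod p)ˣ →* Rˣ}

lemma chi_pow_period (m : (ZMod p)ˣ) : ((χ m : Rˣ) : R) ^ (p - 1) = 1 := by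
  rw [← Units.val_pow_eq_pow_val, ← map_pow, ZMod.units_pow_card_sub_one_eq_one, map_one, Units.val_one]

lemma chi_pow_mod (m : (ZMod p)ˣ) (i : ℕ) :
    ((χ m : Rˣ) : R) ^ i = ((χ m : Rˣ) : R) ^ (i % (p - 1)) :=
  pow_eq_pow_mod i (chi_pow_period m)

lemma chi_inv_pow (m : (ZMod p)ˣ) (i : ℕ) :
    ((χ m⁻¹ : Rˣ) : R) ^ i = ((χ m : Rˣ) : R) ^ (p - 1 - i % (p - 1)) := by
  have hq : 0 < p - 1 := Nat.sub_pos_of_lt hp.out.one_lt
  have h1 : ((χ m⁻¹ : Rˣ) : R) * ((χ m : Rˣ) : R) = 1 := by simp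
  have h2 : ((χ m⁻¹ : Rˣ) : R) ^ (i % (p - 1)) * ((χ m : Rˣ) : R) ^ (i % (p - 1)) = 1 := by
    rw [← mul_pow, h1, one_pow]
  have h3 : ((χ m : Rˣ) : R) ^ (i % (p - 1)) * ((χ m : Rˣ) : R) ^ (p - 1 - i % (p - 1)) = 1 := by
    rw [← pow_add, Nat.add_sub_cancel' (Nat.mod_lt i hq).le, chi_pow_period]
  rw [chi_pow_mod (χ := χ) m⁻¹ i]
  exact left_inv_eq_right_inv h2 h3

variable (hχ : ∀ m : (ZMod p)ˣ, m ≠ 1 → IsUnit ((χ m : R) - 1))
include hχ

lemma sum_chi_pow (k : ℕ) :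
    ∑ m : (ZMod p)ˣ, ((χ m : Rˣ) : R) ^ k = if p - 1 ∣ k then ((p - 1 : ℕ) : R) else 0 := by
  split_ifs with hk
  · obtain ⟨c, rfl⟩ := hk
    simp [pow_mul, chi_pow_period, Nat.totient_prime hp.out]
  · obtain ⟨g, hg⟩ := IsCyclic.exists_generator (α := (ZMod p)ˣ)
    have ho : orderOf g = p - 1 := by
      rw [orderOf_eq_card_of_forall_mem_zpowers hg, Nat.card_eq_fintype_card, ZMod.card_units]
    have hne : g ^ k ≠ 1 := fun h => hk (ho ▸ orderOf_dvd_of_pow_eq_one h)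
    have hu := hχ _ hne
    rw [map_pow, Units.val_pow_eq_pow_val] at hu
    refine hu.mul_right_eq_zero.1 ?_
    rw [sub_mul, one_mul, Finset.mul_sum, sub_eq_zero]
    refine Fintype.sum_equiv (Equiv.mulLeft g) _ _ fun m => ?_
    simp [mul_pow]

lemma sum_range_chi_pow (m : (ZMod p)ˣ) :
    ∑ i : Fin (p - 1), ((χ m : Rˣ) : R) ^ (i : ℕ) = if m = 1 then ((p - 1 : ℕ) : R) else 0 := by
  split_ifs with h
  · simp [h]
  · refine (hχ m h).mul_right_eq_zero.1 ?_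
    rw [Fin.sum_univ_eq_sum_range (fun i => ((χ m : Rˣ) : R) ^ i), mul_comm, geom_sum_mul,
      chi_pow_period, sub_self]

variable {u : R} (hu : u * ((p - 1 : ℕ) : R) = 1) {E : Type*} [Ring E] [Algebra R E]
  (ρ : (ZMod p)ˣ →* E)
include hu

variable (χ u) in
/-- The averaging element. -/
def avg (i : ℕ) : E := u • ∑ m : (ZMod p)ˣ, ((((χ m⁻¹ : Rˣ) : R) ^ i) • ρ m : E)

omit hχ hu in
lemma rho_mul_avg (n : (ZMod p)ˣ) (i : ℕ) :
    ρ n * avg χ u ρ i = ((χ n : Rˣ) : R) ^ i • avg χ u ρ i := by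
  rw [avg, mul_smul_comm, Finset.mul_sum]
  conv_rhs => rw [smul_comm, Finset.smul_sum]
  congr 1
  refine Fintype.sum_equiv (Equiv.mulLeft n) _ _ fun m => ?_
  rw [mul_smul_comm, ← map_mul, Equiv.coe_mulLeft, smul_smul]
  congr 1
  rw [← mul_pow, ← Units.val_mul, ← map_mul, mul_inv_rev, mul_comm m⁻¹, mul_inv_cancel_left]

lemma coeff_orth (i j : ℕ) :
    u * ∑ m : (ZMod p)ˣ, ((χ m⁻¹ : Rˣ) : R) ^ i * ((χ m : Rˣ) : R) ^ j =
      if i % (p - 1) = j % (p - 1) then 1 else 0 := by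
  have hq : 0 < p - 1 := Nat.sub_pos_of_lt hp.out.one_lt
  have h1 : ∀ m : (ZMod p)ˣ, ((χ m⁻¹ : Rˣ) : R) ^ i * ((χ m : Rˣ) : R) ^ j =
      ((χ m : Rˣ) : R) ^ (p - 1 - i % (p - 1) + j % (p - 1)) := fun m => by
    rw [chi_inv_pow, chi_pow_mod (χ := χ) m j, pow_add]
  rw [Finset.sum_congr rfl fun m _ => h1 m, sum_chi_pow hχ]
  have hi := Nat.mod_lt i hq
  have hj := Nat.mod_lt j hq
  have key : (p - 1 ∣ p - 1 - i % (p - 1) + j % (p - 1)) ↔ i % (p - 1) = j % (p - 1) := by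
    constructor
    · rintro ⟨c, hc⟩
      rcases c with _ | _ | c
      · omega
      · omega
      · have : (p - 1) * (c + 1 + 1) ≥ (p - 1) * 2 := Nat.mul_le_mul_left _ (by omega)
        omega
    · intro h
      exact ⟨1, by omega⟩
  by_cases h : i % (p - 1) = j % (p - 1)
  · rw [if_pos (key.2 h), if_pos h, hu]
  · rw [if_neg (fun hd => h (key.1 hd)), if_neg h, mul_zero]

lemma avg_mul_avg (i j : ℕ) :
    avg χ u ρ i * avg χ u ρ j = (if i % (p - 1) = j % (p - 1) then (1 : R) else 0) • avg χ u ρ j := by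
  rw [← coeff_orth hχ hu i j]
  conv_lhs => rw [avg, smul_mul_assoc, Finset.sum_mul]
  simp only [smul_mul_assoc, rho_mul_avg, smul_smul]
  rw [← Finset.sum_smul, smul_smul]

lemma sum_avg : ∑ i : Fin (p - 1), avg χ u ρ (i : ℕ) = 1 := by
  simp only [avg]
  rw [← Finset.smul_sum, Finset.sum_comm]
  simp only [← Finset.sum_smul, sum_range_chi_pow hχ, inv_eq_one, ite_smul, zero_smul]
  rw [Finset.sum_ite_eq' Finset.univ (1 : (ZMod p)ˣ), if_pos (Finset.mem_univ _), map_one, smul_smul, hu,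
    one_smul]

lemma completeOrthogonal_avg :
    CompleteOrthogonalIdempotents (fun i : Fin (p - 1) => avg χ u ρ (i : ℕ)) := by
  refine ⟨⟨fun i => ?_, fun i j hij => ?_⟩, sum_avg hχ hu ρ⟩
  · show _ = _
    rw [avg_mul_avg hχ hu, if_pos rfl, one_smul]
  · show _ * _ = _
    rw [avg_mul_avg hχ hu, if_neg, zero_smul]
    rw [Nat.mod_eq_of_lt i.2, Nat.mod_eq_of_lt j.2]
    exact fun h => hij (Fin.ext h)

end Groth.Agent.OT
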