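import Groth.Agent.Lib.OT.BaseChange
import Mathlib.RingTheory.Norm.Basic
import Mathlib.LinearAlgebra.TensorProduct.Basis
import Mathlib.RingTheory.Spectrum.Prime.FreeLocus
import Mathlib.RingTheory.LocalProperties.Basic
import Mathlib.RingTheory.LocalRing.Module

/-!
Deligne's theorem: a commutative finite locally free group scheme is killed by its order.
-/

open TensorProduct Coalgebra WithConv

namespace Groth.Agent.OT

variable {R : Type*} [CommRing R] {A : Type*} [CommRing A] [HopfAlgebra R A] [IsCocomm R A]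

theorem convPow_card_eq_one_of_basis {ι : Type*} [Fintype ι] (b : Module.Basis ι R A) :
    (toConv (AlgHom.id R A)) ^ Fintype.card ι = 1 := by
  classical
  let iL : A →ₐ[R] A ⊗[R] A := Algebra.TensorProduct.includeLeft
  let iR : A →ₐ[R] A ⊗[R] A := Algebra.TensorProduct.includeRight
  let u : WithConv (A →ₐ[R] A ⊗[R] A) := toConv iL
  let v : WithConv (A →ₐ[R] A ⊗[R] A) := toConv iR
  -- shear automorphism
  let t : A ⊗[R] A →ₐ[A] A ⊗[R] A :=
    Algebra.TensorProduct.lift (Algebra.ofId A (A ⊗[R] A)) (u * v).ofConv fun _ _ => Commute.all _ _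
  let t' : A ⊗[R] A →ₐ[A] A ⊗[R] A :=
    Algebra.TensorProduct.lift (Algebra.ofId A (A ⊗[R] A)) (u⁻¹ * v).ofConv fun _ _ => Commute.all _ _
  have hfix : ∀ (w : WithConv (A →ₐ[R] A ⊗[R] A)) (a : A),
      Algebra.TensorProduct.lift (Algebra.ofId A (A ⊗[R] A)) w.ofConv (fun _ _ => Commute.all _ _)
        (a ⊗ₜ 1) = a ⊗ₜ 1 := by
    intro w a
    rw [Algebra.TensorProduct.lift_tmul, map_one, mul_one]; rfl
  have hcomp : ∀ (w w' : WithConv (A →ₐ[R] A ⊗[R] A)),
      let s := (Algebra.TensorProduct.lift (Algebra.ofId A (A ⊗[R] A)) w.ofConv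
        (fun _ _ => Commute.all _ _)).restrictScalars R
      s.comp (u * w').ofConv = (u * toConv (s.comp w'.ofConv)).ofConv ∧
      s.comp (u⁻¹ * w').ofConv = (u⁻¹ * toConv (s.comp w'.ofConv)).ofConv ∧
      s.comp v.ofConv = w.ofConv := by
    intro w w' s
    have hsu : toConv (s.comp u.ofConv) = u := by
      apply WithConv.ofConv_injective; ext a; exact hfix w a
    have hsui : toConv (s.comp (u⁻¹).ofConv) = u⁻¹ := by
      apply WithConv.ofConv_injective; ext a; exact hfix w _
    refine ⟨?_, ?_, ?_⟩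
    · rw [AlgHom.comp_convMul_distrib, hsu]
    · rw [AlgHom.comp_convMul_distrib, hsui]
    · ext a
      show Algebra.TensorProduct.lift _ _ (fun _ _ => Commute.all _ _) ((1 : A) ⊗ₜ[R] a) = _
      rw [Algebra.TensorProduct.lift_tmul, map_one, one_mul]
  have htt' : t.comp t' = AlgHom.id A _ := by
    refine Algebra.TensorProduct.ext_ring ?_
    apply AlgHom.ext; intro a
    show t (t' ((1 : A) ⊗ₜ[R] a)) = 1 ⊗ₜ[R] a
    have h := (hcomp (u * v) v).2.1
    have h' := (hcomp (u * v) v).2.2
    have hh : u⁻¹ * (u * v) = v := inv_mul_cancel_left u v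
    rw [h', toConv_ofConv, hh] at h
    simp only [t', Algebra.TensorProduct.lift_tmul, map_one, one_mul]
    exact AlgHom.congr_fun h a
  have ht't : t'.comp t = AlgHom.id A _ := by
    refine Algebra.TensorProduct.ext_ring ?_
    apply AlgHom.ext; intro a
    show t' (t ((1 : A) ⊗ₜ[R] a)) = 1 ⊗ₜ[R] a
    have h := (hcomp (u⁻¹ * v) v).1
    have h' := (hcomp (u⁻¹ * v) v).2.2
    have hh : u * (u⁻¹ * v) = v := mul_inv_cancel_left u v
    rw [h', toConv_ofConv, hh] at h
    simp only [t, Algebra.TensorProduct.lift_tmul, map_one, one_mul]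
    exact AlgHom.congr_fun h a
  let te : A ⊗[R] A ≃ₐ[A] A ⊗[R] A := AlgEquiv.ofAlgHom t t' htt' ht't
  -- the algebra C over D
  let j : WithConv (A →ₗ[R] A) →+* WithConv (A →ₗ[R] A ⊗[R] A) := postHom iL
  let : Algebra (WithConv (A →ₗ[R] A)) (WithConv (A →ₗ[R] A ⊗[R] A)) := j.toAlgebra
  let bA : Module.Basis ι A (A ⊗[R] A) := b.baseChange A
  let e : WithConv (A →ₗ[R] A ⊗[R] A) ≃ₗ[WithConv (A →ₗ[R] A)] (ι → WithConv (A →ₗ[R] A)) :=
    { toFun := fun f i => toConv (((bA.coord i).restrictScalars R) ∘ₗ f.ofConv)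
      map_add' := fun f g => by ext i a; simp
      map_smul' := fun d f => by
        ext i a
        rw [RingHom.id_apply, Pi.smul_apply, smul_eq_mul, Algebra.smul_def,
          RingHom.algebraMap_toAlgebra]
        show bA.coord i ((j d * f) a) = _
        rw [(ℛ R a).convMul_apply, (ℛ R a).convMul_apply, map_sum]
        refine Finset.sum_congr rfl fun k _ => ?_
        show bA.coord i ((d _ ⊗ₜ[R] (1 : A)) * f _) = d _ * bA.coord i (f _)
        rw [show ∀ (x : A) (z : A ⊗[R] A), (x ⊗ₜ[R] (1 : A)) * z = x • z from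
          fun x z => by rw [Algebra.smul_def]; rfl, map_smul]
        rfl
      invFun := fun g => toConv (∑ i, (LinearMap.toSpanSingleton A _ (bA i)).restrictScalars R ∘ₗ (g i).ofConv)
      left_inv := fun f => by
        ext a
        simp [bA.sum_repr]
      right_inv := fun g => by
        ext i a
        simp [map_sum, Finsupp.single_apply] }
  let B : Module.Basis ι (WithConv (A →ₗ[R] A)) (WithConv (A →ₗ[R] A ⊗[R] A)) := Module.Basis.ofEquivFun e
  let T : WithConv (A →ₗ[R] A ⊗[R] A) ≃ₐ[WithConv (A →ₗ[R] A)] WithConv (A →ₗ[R] A ⊗[R] A) :=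
    AlgEquiv.ofAlgHom
      { toRingHom := postHom (te.toAlgHom.restrictScalars R)
        commutes' := fun d => by ext a; exact hfix _ (d a) }
      { toRingHom := postHom (te.symm.toAlgHom.restrictScalars R)
        commutes' := fun d => by ext a; exact hfix _ (d a) }
      (by ext f a; exact te.apply_symm_apply (f a))
      (by ext f a; exact te.symm_apply_apply (f a))
  let V : WithConv (A →ₗ[R] A ⊗[R] A) := toConv iR.toLinearMap
  have hV : IsUnit V := by
    refine IsUnit.of_mul_eq_one (toConv (v⁻¹).ofConv.toLinearMap) ?_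
    show toConv v.ofConv.toLinearMap * _ = 1
    have hh : v * v⁻¹ = 1 := mul_inv_cancel v
    rw [← AlgHom.toLinearMap_convMul, hh, AlgHom.toLinearMap_convOne]
  have hTV : T V = algebraMap _ _ (toConv (LinearMap.id : A →ₗ[R] A)) * V := by
    have h := (hcomp (u * v) v).2.2
    have h2 : toConv (u * v).ofConv.toLinearMap = T V := by
      rw [← h]; rfl
    rw [← h2, AlgHom.toLinearMap_convMul]; rfl
  have hN := Algebra.norm_eq_of_algEquiv T V
  rw [hTV, map_mul, Algebra.norm_algebraMap_of_basis B] at hN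
  have hid : (toConv (LinearMap.id : A →ₗ[R] A)) ^ Fintype.card ι = 1 :=
    (IsUnit.mul_eq_right (hV.map (Algebra.norm (WithConv (A →ₗ[R] A))))).1 hN
  apply WithConv.ofConv_injective
  apply AlgHom.toLinearMap_injective
  apply WithConv.toConv_injective
  rw [AlgHom.toLinearMap_convPow, AlgHom.toLinearMap_convOne]
  exact hid

theorem convPow_eq_one_of_rankAtStalk_eq [Module.Finite R A] [Module.Projective R A] (n : ℕ)
    (hn : ∀ p : PrimeSpectrum R, Module.rankAtStalk A p = n) :
    (toConv (AlgHom.id R A)) ^ n = 1 := by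
  apply WithConv.ofConv_injective
  ext a
  refine Module.eq_of_localization_maximal
    (fun m [m.IsMaximal] => Localization.AtPrime m ⊗[R] A)
    (fun m [m.IsMaximal] => TensorProduct.mk R (Localization.AtPrime m) A 1) _ _ fun m hm => ?_
  let S := Localization.AtPrime m
  have : Module.Free S (S ⊗[R] A) := Module.free_of_flat_of_isLocalRing
  have hr : Module.finrank S (S ⊗[R] A) = n := by
    rw [← Module.rankAtStalk_eq_finrank_tensorProduct ⟨m, inferInstance⟩, hn]
  have h := convPow_card_eq_one_of_basis (Module.finBasisOfFinrankEq S (S ⊗[R] A) hr)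
  rw [Fintype.card_fin] at h
  have e := powId_one_tmul (R := R) (S := S) n a
  rw [h, AlgHom.convOne_apply] at e
  show (1 : S) ⊗ₜ[R] _ = (1 : S) ⊗ₜ[R] _
  rw [← e, counit_one_tmul (R := R) S a, ← IsScalarTower.algebraMap_apply]
  rw [AlgHom.convOne_apply]
  simp [Algebra.TensorProduct.one_def, Algebra.algebraMap_eq_smul_one,
    TensorProduct.smul_tmul']

end Groth.Agent.OT
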