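import Groth.Agent.Lib.OT.Avg
import Groth.Agent.Lib.OT.BaseChange
import Groth.Prelude.Def_W4c5ffgsreadingcourseOT

/-!
The eigenspace decomposition of the augmentation ideal.
-/

universe u

open TensorProduct Coalgebra WithConv SGA3b

namespace Groth.Agent.OT

set_option linter.unusedSectionVars false

variable {R : Type u} [CommRing R] {A : Type u} [CommRing A] [HopfAlgebra R A]

lemma comp_convPow {A' B : Type*} [CommRing A'] [Algebra R A'] [CommRing B] [Algebra R B]
    (φ : A' →ₐ[R] B) (f : WithConv (A →ₐ[R] A')) :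
    ∀ n : ℕ, toConv (φ.comp (f ^ n).ofConv) = (toConv (φ.comp f.ofConv)) ^ n
  | 0 => by apply WithConv.ofConv_injective; ext a; simp
  | n + 1 => by
    rw [pow_succ f, AlgHom.comp_convMul_distrib, toConv_ofConv, comp_convPow φ f n, pow_succ]

lemma comp_powConv {B : Type*} [CommRing B] [Algebra R B] (φ : A →ₐ[R] B) (n : ℕ) :
    φ.comp (powConv R A n) = ((toConv φ) ^ n).ofConv := by
  have := comp_convPow φ (toConv (AlgHom.id R A)) n
  rw [ofConv_toConv, AlgHom.comp_id] at this
  rw [← this]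
  rfl

lemma powConv_comp (a b : ℕ) : (powConv R A a).comp (powConv R A b) = powConv R A (a * b) := by
  rw [comp_powConv]
  unfold powConv
  rw [toConv_ofConv, pow_mul]

lemma counit_powConv (n : ℕ) (a : A) : counit (R := R) (powConv R A n a) = counit a := by
  have h := AlgHom.congr_fun (comp_powConv (Bialgebra.counitAlgHom R A) n) a
  have h1 : toConv (Bialgebra.counitAlgHom R A) = 1 := by
    apply WithConv.ofConv_injective; ext b; simp
  rw [h1, one_pow] at h
  simpa using h

lemma powConv_one' : powConv R A 1 = AlgHom.id R A := by rw [powConv, pow_one]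

variable {p : ℕ} [hpF : Fact p.Prime] (hp : (toConv (AlgHom.id R A)) ^ p = 1)

include hp in
lemma powConv_mod (n : ℕ) : powConv R A n = powConv R A (n % p) := by
  rw [powConv, powConv, pow_eq_pow_mod n hp]

/-- The action of the units of `ZMod p`. -/
noncomputable def act : (ZMod p)ˣ →* Module.End R A where
  toFun m := (powConv R A (m : ZMod p).val).toLinearMap
  map_one' := by
    rw [Units.val_one, ZMod.val_one, powConv_one']; rfl
  map_mul' m n := by
    rw [Units.val_mul, ZMod.val_mul, ← powConv_mod hp, ← powConv_comp]; rfl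

lemma act_apply (m : (ZMod p)ˣ) (a : A) : act hp m a = powConv R A (m : ZMod p).val a := rfl

variable (χ : (ZMod p)ˣ →* Rˣ) (u' : R)

lemma avg_act (i : ℕ) : avg χ u' (act hp) i = OortTate.proj R A p u' χ i := rfl

lemma mem_eigenAug {i : ℕ} {f : A} :
    f ∈ OortTate.eigenAug R A p χ i ↔ counit (R := R) f = 0 ∧
      ∀ m : (ZMod p)ˣ, powConv R A (m : ZMod p).val f = ((χ m : Rˣ) : R) ^ i • f := by
  simp only [OortTate.eigenAug, Submodule.mem_inf, Submodule.mem_iInf, LinearMap.mem_ker,
    Module.End.mem_eigenspace_iff]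
  rfl

lemma eigenAug_mod (i : ℕ) :
    OortTate.eigenAug R A p χ i = OortTate.eigenAug R A p χ (i % (p - 1)) := by
  ext f
  simp only [mem_eigenAug, ← chi_pow_mod]

lemma counit_proj (i : ℕ) (f : A) (hf : counit (R := R) f = 0) :
    counit (R := R) (OortTate.proj R A p u' χ i f) = 0 := by
  simp [OortTate.proj, LinearMap.sum_apply, counit_powConv, hf]

include hp in
lemma proj_mem (i : ℕ) {f : A} (hf : counit (R := R) f = 0) :
    OortTate.proj R A p u' χ i f ∈ OortTate.eigenAug R A p χ i := by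
  refine (mem_eigenAug χ).2 ⟨counit_proj χ u' i f hf, fun m => ?_⟩
  have := LinearMap.congr_fun (rho_mul_avg (χ := χ) (u := u') (act hp) m i) f
  rwa [avg_act, Module.End.mul_apply, act_apply, LinearMap.smul_apply] at this

variable {χ u'} (hχ : ∀ m : (ZMod p)ˣ, m ≠ 1 → IsUnit ((χ m : R) - 1))
  (hu : u' * ((p - 1 : ℕ) : R) = 1)
include hχ hu

lemma proj_of_mem {i j : ℕ} {f : A} (hf : f ∈ OortTate.eigenAug R A p χ j) :
    OortTate.proj R A p u' χ i f = (if i % (p - 1) = j % (p - 1) then (1 : R) else 0) • f := by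
  rw [← coeff_orth hχ hu i j, OortTate.proj]
  simp only [LinearMap.smul_apply, LinearMap.sum_apply, AlgHom.toLinearMap_apply,
    ((mem_eigenAug χ).1 hf).2, smul_smul, ← Finset.sum_smul]

include hp

lemma eigenAug_eq_map (i : ℕ) :
    OortTate.eigenAug R A p χ i = Submodule.map (OortTate.proj R A p u' χ i)
      (LinearMap.ker (Bialgebra.counitAlgHom R A).toLinearMap) := by
  ext f
  refine ⟨fun hf => ⟨f, ((mem_eigenAug χ).1 hf).1, ?_⟩, ?_⟩
  · rw [proj_of_mem hχ hu hf, if_pos rfl, one_smul]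
  · rintro ⟨g, hg, rfl⟩
    exact proj_mem hp χ u' i hg

lemma sum_proj (f : A) : ∑ i : Fin (p - 1), OortTate.proj R A p u' χ (i : ℕ) f = f := by
  have := LinearMap.congr_fun (sum_avg hχ hu (act (R := R) (A := A) hp)) f
  simpa [avg_act] using this

lemma iSup_eigenAug :
    (⨆ i : Fin (p - 1), OortTate.eigenAug R A p χ (i : ℕ)) =
      LinearMap.ker (Bialgebra.counitAlgHom R A).toLinearMap := by
  refine le_antisymm (iSup_le fun i => inf_le_left) fun f hf => ?_
  rw [← sum_proj hp hχ hu f]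
  exact Submodule.sum_mem _ fun i _ => Submodule.mem_iSup_of_mem i (proj_mem hp χ u' _ hf)

omit hp in
lemma iSupIndep_eigenAug :
    iSupIndep (fun i : Fin (p - 1) => OortTate.eigenAug R A p χ (i : ℕ)) := by
  intro i
  rw [disjoint_iff, Submodule.eq_bot_iff]
  rintro f ⟨hfi, hf⟩
  have h1 : OortTate.proj R A p u' χ (i : ℕ) f = f := by
    rw [proj_of_mem hχ hu hfi, if_pos rfl, one_smul]
  have h2 : (⨆ (j) (_ : j ≠ i), OortTate.eigenAug R A p χ (j : ℕ)) ≤
      LinearMap.ker (OortTate.proj R A p u' χ (i : ℕ)) := by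
    refine iSup₂_le fun j hj g hg => ?_
    rw [LinearMap.mem_ker, proj_of_mem hχ hu hg, if_neg, zero_smul]
    rw [Nat.mod_eq_of_lt i.2, Nat.mod_eq_of_lt j.2]
    exact fun h => hj (Fin.ext h.symm)
  rw [← h1]
  exact LinearMap.mem_ker.1 (h2 hf)

omit hp hu hχ in
lemma mul_mem_eigenAug {i j : ℕ} {f g : A} (hf : f ∈ OortTate.eigenAug R A p χ i)
    (hg : g ∈ OortTate.eigenAug R A p χ j) : f * g ∈ OortTate.eigenAug R A p χ (i + j) := by
  rw [mem_eigenAug] at hf hg ⊢
  refine ⟨by rw [Bialgebra.counit_mul, hf.1, zero_mul], fun m => ?_⟩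
  rw [map_mul, hf.2, hg.2, smul_mul_smul_comm, pow_add]

omit hp hu hχ in
lemma pow_mem_eigenAug {i : ℕ} {f : A} (hf : f ∈ OortTate.eigenAug R A p χ i) :
    ∀ {t : ℕ}, 1 ≤ t → f ^ t ∈ OortTate.eigenAug R A p χ (t * i)
  | 0, h => absurd h (by omega)
  | 1, _ => by simpa using hf
  | t + 2, _ => by
    rw [pow_succ, Nat.succ_mul]
    exact mul_mem_eigenAug (pow_mem_eigenAug hf (by omega)) hf

end Groth.Agent.OT
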