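import Groth.Agent.Lib.OT.Lift

/-!
The isomorphism criterion for group schemes of prime order.
-/

universe u

open TensorProduct Coalgebra WithConv SGA3b

namespace Groth.Agent.OT

set_option linter.unusedSectionVars false
set_option linter.style.haveILetI false

variable {R : Type u} [CommRing R] {p : ℕ} [hpF : Fact p.Prime] {χ : (ZMod p)ˣ →* Rˣ} {u' : R}
  (hχ : ∀ m : (ZMod p)ˣ, m ≠ 1 → IsUnit ((χ m : R) - 1)) (hu : u' * ((p - 1 : ℕ) : R) = 1)
  (hχp : ∀ m : (ZMod p)ˣ, ((χ m : Rˣ) : R) - (((m : ZMod p).val : ℕ) : R) ∈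
    Ideal.span ({(p : R)} : Set R))

section AlgHom

variable {A : Type u} [CommRing A] [HopfAlgebra R A] [IsCocomm R A] [Module.Finite R A]
  [Module.Projective R A] (hrk : ∀ q : PrimeSpectrum R, Module.rankAtStalk A q = p)
  {T : Type u} [CommRing T] [Algebra R T]

include hχ hu hχp hrk

theorem exists_algHom (θ : OortTate.eigenAug R A p χ 1 →ₗ[R] T)
    (hθ : ∀ (f : Fin p → OortTate.eigenAug R A p χ 1) (g : OortTate.eigenAug R A p χ 1),
      (g : A) = ∏ i, (f i : A) → θ g = ∏ i, θ (f i)) :
    ∃ F : A →ₐ[R] T, ∀ a : OortTate.eigenAug R A p χ 1, F a = θ a := by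
  obtain ⟨w, -, hw⟩ := exists_w hχ hu hχp
  let π' : A →ₗ[R] OortTate.eigenAug R A p χ 1 :=
    LinearMap.codRestrict _ (pr (p := p) u' χ 1) (pr_mem (killed_of_rank hrk) 1)
  have hπ : ∀ a : OortTate.eigenAug R A p χ 1, π' a = a := fun a => Subtype.ext (by
    show pr (p := p) u' χ 1 (a : A) = a
    rw [pr_of_mem hχ hu a.2, if_pos rfl, one_smul])
  let θA : A →ₗ[R] T := θ ∘ₗ π'
  have hθA : ∀ as : List A, (∀ a ∈ as, a ∈ OortTate.eigenAug R A p χ 1) → as.length = p →
      θA as.prod = (as.map θA).prod := by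
    intro as has hlen
    have hval : ∀ a (ha : a ∈ OortTate.eigenAug R A p χ 1), θA a = θ ⟨a, ha⟩ :=
      fun a ha => congrArg θ (hπ ⟨a, ha⟩)
    have hmem := prod_prime_mem hrk hχ hu hχp as has hlen
    rw [hval _ hmem, hθ (fun i => ⟨as.get (Fin.cast hlen.symm i), has _ (List.get_mem _ _)⟩) ⟨_, hmem⟩
      (by
        show as.prod = _
        rw [← List.prod_ofFn]
        congr 1
        apply List.ext_getElem <;> simp [hlen]), ← List.prod_ofFn]
    congr 1
    apply List.ext_getElem
    · simp [hlen]
    · intro i h1 h2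
      simp only [List.getElem_ofFn, List.getElem_map]
      exact (hval _ _).symm
  have hall := fun as has => liftI_prod_all hrk hχ hu hχp θA hw hθA _ as rfl has
  let F0 := liftI (p := p) u' w χ θA
  have hmul : ∀ a b, F0 (a * b) = F0 a * F0 b := by
    intro a b
    have h1 : ∀ as : List A, (∀ a ∈ as, a ∈ OortTate.eigenAug R A p χ 1) →
        ∀ b, F0 (as.prod * b) = F0 as.prod * F0 b := by
      intro as has b
      have := ext_prods hrk hχ hu hχp (f := F0 ∘ₗ LinearMap.mulLeft R as.prod)
        (g := LinearMap.mulLeft R (F0 as.prod) ∘ₗ F0) fun bs hbs _ => by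
        show F0 (as.prod * bs.prod) = F0 as.prod * F0 bs.prod
        rw [← List.prod_append, hall _ (fun x hx => (List.mem_append.1 hx).elim (has x) (hbs x)),
          hall _ has, hall _ hbs, List.map_append, List.prod_append]
      exact LinearMap.congr_fun this b
    have := ext_prods hrk hχ hu hχp (f := F0 ∘ₗ LinearMap.mulRight R b)
      (g := LinearMap.mulRight R (F0 b) ∘ₗ F0) fun bs hbs _ => h1 bs hbs b
    exact LinearMap.congr_fun this a
  refine ⟨AlgHom.ofLinearMap F0 (liftI_one θA w) hmul, fun a => ?_⟩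
  show F0 a = θ a
  have := hall [(a : A)] (by simp)
  rw [List.prod_singleton, List.map_singleton, List.prod_singleton] at this
  exact this.trans (congrArg θ (hπ a))

theorem algHom_ext_eigen {F F' : A →ₐ[R] T}
    (h : ∀ a ∈ OortTate.eigenAug R A p χ 1, F a = F' a) : F = F' := by
  apply AlgHom.toLinearMap_injective
  refine ext_prods hrk hχ hu hχp fun as has _ => ?_
  show F as.prod = F' as.prod
  rw [map_list_prod, map_list_prod]
  congr 1
  exact List.map_congr_left fun a ha => h a (has a ha)

/-- The dual algebra is spanned by products of `I₁`. -/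
theorem dual_span_prods :
    Submodule.span R {x : CartDual.D R A | ∃ Gs : List (CartDual.D R A),
      (∀ G ∈ Gs, G ∈ OortTate.eigenAug R (CartDual.D R A) p χ 1) ∧ Gs.prod = x} = ⊤ := by
  set P := Submodule.span R {x : CartDual.D R A | ∃ Gs : List (CartDual.D R A),
      (∀ G ∈ Gs, G ∈ OortTate.eigenAug R (CartDual.D R A) p χ 1) ∧ Gs.prod = x}
  obtain ⟨w, -, hw⟩ := exists_w hχ hu hχp
  obtain ⟨n, e, G, he, hG, hsum⟩ := exists_dualBasis hrk hχ hu hχp
  have hθ : (toConv (pr (p := p) u' χ 1) : WithConv (A →ₗ[R] A)) = ∑ k, sc (G k) (e k) := by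
    ext c
    simp [hsum c]
  have hstep : ∀ (s : ℕ) (Gs : List (CartDual.D R A)),
      (∀ G ∈ Gs, G ∈ OortTate.eigenAug R (CartDual.D R A) p χ 1) → ∀ f : A →ₗ[R] R,
      toConv (f ∘ₗ (sc Gs.prod (1 : A) *
        (toConv (pr (p := p) u' χ 1) : WithConv (A →ₗ[R] A)) ^ s).ofConv) ∈ P := by
    intro s
    induction s with
    | zero =>
      intro Gs hGs f
      have : toConv (f ∘ₗ (sc Gs.prod (1 : A) * 1).ofConv) = f 1 • Gs.prod := by
        rw [mul_one]
        ext b
        simp [mul_comm]
      rw [pow_zero, this]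
      exact P.smul_mem _ (Submodule.subset_span ⟨Gs, hGs, rfl⟩)
    | succ s ih =>
      intro Gs hGs f
      have : toConv (f ∘ₗ (sc Gs.prod (1 : A) *
          (toConv (pr (p := p) u' χ 1) : WithConv (A →ₗ[R] A)) ^ (s + 1)).ofConv) =
          ∑ k, toConv ((f ∘ₗ LinearMap.mulLeft R (e k)) ∘ₗ (sc (Gs ++ [G k]).prod (1 : A) *
            (toConv (pr (p := p) u' χ 1) : WithConv (A →ₗ[R] A)) ^ s).ofConv) := by
        rw [pow_succ']
        conv_lhs => enter [1, 2, 1, 2, 1]; rw [hθ]
        ext b
        simp only [Finset.sum_mul, Finset.mul_sum, WithConv.ofConv_sum, LinearMap.sum_apply,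
          ofConv_toConv, LinearMap.comp_apply, map_sum, LinearMap.mulLeft_apply, List.prod_append,
          List.prod_singleton]
        refine Finset.sum_congr rfl fun k _ => ?_
        rw [← mul_assoc, sc_mul_sc, one_mul, sc_mul_apply]
      rw [this]
      refine Submodule.sum_mem _ fun k _ => ih _ (fun x hx => ?_) _
      rcases List.mem_append.1 hx with hx | hx
      · exact hGs x hx
      · exact (List.mem_singleton.1 hx) ▸ hG k
  have hp := killed_of_rank hrk
  rw [eq_top_iff]
  intro f _
  have hf : f = f.ofConv 1 • (1 : CartDual.D R A) +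
      ∑ i : Fin (p - 1), toConv (f.ofConv ∘ₗ pr (p := p) u' χ (red p (i : ℕ))) := by
    ext a
    have hpr : ∀ i : ℕ, pr (p := p) u' χ (red p i) a = pr (p := p) u' χ i a := by
      intro i
      simp only [pr_apply, OortTate.proj]
      have := (red_spec (p := p) i).2.2
      simp only [chi_pow_mod _ (red p i), this, ← chi_pow_mod]
    simp only [WithConv.ofConv_add, WithConv.ofConv_smul, WithConv.ofConv_sum, LinearMap.add_apply,
      LinearMap.smul_apply, LinearMap.sum_apply, ofConv_toConv, LinearMap.comp_apply,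
      hpr]
    rw [← map_sum, show ∑ i : Fin (p - 1), pr (p := p) u' χ (i : ℕ) a = a - algebraMap R A (counit a) from
      sum_proj hp hχ hu _, map_sub, Algebra.algebraMap_eq_smul_one, map_smul]
    simp [mul_comm]
  rw [hf]
  refine add_mem (P.smul_mem _ (Submodule.subset_span ⟨[], by simp, rfl⟩)) (Submodule.sum_mem _ fun i _ => ?_)
  obtain ⟨h1, h2, -⟩ := red_spec (p := p) (i : ℕ)
  have h := hstep (red p (i : ℕ)) [] (by simp) f.ofConv
  rw [List.prod_nil, sc_one, one_mul, pr_convPow hp hw h1 h2] at h
  have h' : toConv (f.ofConv ∘ₗ (w (red p (i : ℕ)) • toConv (pr (p := p) u' χ (red p (i : ℕ)))).ofConv) =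
      w (red p (i : ℕ)) • toConv (f.ofConv ∘ₗ pr (p := p) u' χ (red p (i : ℕ))) := by
    ext b; simp
  rw [h'] at h
  obtain ⟨c, hc⟩ := (hw _ h1 h2).1.exists_left_inv
  have := P.smul_mem c h
  rwa [smul_smul, hc, one_smul] at this

end AlgHom

variable {A : Type u} [CommRing A] [HopfAlgebra R A] [IsCocomm R A] [Module.Finite R A]
  [Module.Projective R A] (hrk : ∀ q : PrimeSpectrum R, Module.rankAtStalk A q = p)
  {A' : Type u} [CommRing A'] [HopfAlgebra R A'] [IsCocomm R A'] [Module.Finite R A']
  [Module.Projective R A'] (hrk' : ∀ q : PrimeSpectrum R, Module.rankAtStalk A' q = p)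

include hχ hu hχp hrk hrk'

theorem nonempty_bialgEquiv
    (θ : OortTate.eigenAug R A p χ 1 ≃ₗ[R] OortTate.eigenAug R A' p χ 1)
    (hθ : ∀ (f : Fin p → OortTate.eigenAug R A p χ 1) (g : OortTate.eigenAug R A p χ 1),
      (g : A) = ∏ i, (f i : A) → ((θ g : OortTate.eigenAug R A' p χ 1) : A') = ∏ i, ((θ (f i)) : A'))
    (hθD : ∀ (φ : Fin p → OortTate.eigenAug R (CartDual.D R A) p χ 1)
      (φ' : Fin p → OortTate.eigenAug R (CartDual.D R A') p χ 1)
      (ψ : OortTate.eigenAug R (CartDual.D R A) p χ 1) (ψ' : OortTate.eigenAug R (CartDual.D R A') p χ 1),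
      (∀ i, ∀ x : OortTate.eigenAug R A p χ 1,
        CartDual.toDual R A (φ i : CartDual.D R A) (x : A) =
          CartDual.toDual R A' (φ' i : CartDual.D R A') ((θ x : OortTate.eigenAug R A' p χ 1) : A')) →
      (ψ : CartDual.D R A) = ∏ i, (φ i : CartDual.D R A) →
      (ψ' : CartDual.D R A') = ∏ i, (φ' i : CartDual.D R A') →
      ∀ x : OortTate.eigenAug R A p χ 1,
        CartDual.toDual R A (ψ : CartDual.D R A) (x : A) =
          CartDual.toDual R A' (ψ' : CartDual.D R A') ((θ x : OortTate.eigenAug R A' p χ 1) : A')) :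
    Nonempty (A ≃ₐc[R] A') := by
  obtain ⟨w, -, hw⟩ := exists_w hχ hu hχp
  have h1p := hpF.out.one_lt
  have hp := killed_of_rank hrk
  have hmodp : p % (p - 1) = 1 % (p - 1) := by
    rw [Nat.mod_eq_sub_mod (Nat.sub_le p 1)]; congr 1; omega
  obtain ⟨F, hF⟩ := exists_algHom hχ hu hχp hrk
    ((OortTate.eigenAug R A' p χ 1).subtype ∘ₗ θ.toLinearMap) fun f g h => hθ f g h
  obtain ⟨F', hF'⟩ := exists_algHom hχ hu hχp hrk'
    ((OortTate.eigenAug R A p χ 1).subtype ∘ₗ θ.symm.toLinearMap) fun f g h => by
      let g0 : OortTate.eigenAug R A p χ 1 := ⟨(List.ofFn fun i => ((θ.symm (f i) : A))).prod,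
        prod_prime_mem hrk hχ hu hχp _ (by
          intro a ha
          obtain ⟨i, rfl⟩ := List.mem_ofFn.1 ha
          exact (θ.symm (f i)).2) (List.length_ofFn)⟩
      have hg0 : (g0 : A) = ∏ i, ((θ.symm (f i)) : A) := List.prod_ofFn
      have h2 := hθ (fun i => θ.symm (f i)) g0 hg0
      simp only [LinearEquiv.apply_symm_apply] at h2
      have : θ g0 = g := Subtype.ext (h2.trans h.symm)
      show ((θ.symm g : OortTate.eigenAug R A p χ 1) : A) = _
      rw [← this, LinearEquiv.symm_apply_apply, hg0]
      rfl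
  have hF'F : F'.comp F = AlgHom.id R A := algHom_ext_eigen hχ hu hχp hrk fun a ha => by
    show F' (F (⟨a, ha⟩ : OortTate.eigenAug R A p χ 1)) = a
    rw [hF]
    show F' ((θ ⟨a, ha⟩ : OortTate.eigenAug R A' p χ 1) : A') = a
    rw [hF']
    show ((θ.symm (θ ⟨a, ha⟩) : OortTate.eigenAug R A p χ 1) : A) = a
    rw [LinearEquiv.symm_apply_apply]
  have hFF' : F.comp F' = AlgHom.id R A' := algHom_ext_eigen hχ hu hχp hrk' fun a ha => by
    show F (F' (⟨a, ha⟩ : OortTate.eigenAug R A' p χ 1)) = a
    rw [hF']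
    show F ((θ.symm ⟨a, ha⟩ : OortTate.eigenAug R A p χ 1) : A) = a
    rw [hF]
    show ((θ (θ.symm ⟨a, ha⟩) : OortTate.eigenAug R A' p χ 1) : A') = a
    rw [LinearEquiv.apply_symm_apply]
  have hFmem : ∀ a ∈ OortTate.eigenAug R A p χ 1, F a ∈ OortTate.eigenAug R A' p χ 1 := fun a ha => by
    rw [show a = ((⟨a, ha⟩ : OortTate.eigenAug R A p χ 1) : A) from rfl, hF]
    exact (θ _).2
  have hε : (Bialgebra.counitAlgHom R A').comp F = Bialgebra.counitAlgHom R A :=
    algHom_ext_eigen hχ hu hχp hrk fun a ha => by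
      show counit (F a) = counit a
      rw [((mem_eigenAug χ).1 (hFmem a ha)).1, ((mem_eigenAug χ).1 ha).1]
  have hFP : ∀ (m : (ZMod p)ˣ) (a : A),
      F (powConv R A (m : ZMod p).val a) = powConv R A' (m : ZMod p).val (F a) := fun m a =>
    AlgHom.congr_fun (algHom_ext_eigen (F := F.comp (powConv R A (m : ZMod p).val))
      (F' := (powConv R A' (m : ZMod p).val).comp F) hχ hu hχp hrk fun a ha => by
        rw [AlgHom.comp_apply, AlgHom.comp_apply, ((mem_eigenAug χ).1 ha).2, map_smul,
          ((mem_eigenAug χ).1 (hFmem a ha)).2]) a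
  let G : CartDual.D R A' → CartDual.D R A := fun x => toConv (x.ofConv ∘ₗ F.toLinearMap)
  have hGmem : ∀ x ∈ OortTate.eigenAug R (CartDual.D R A') p χ 1,
      G x ∈ OortTate.eigenAug R (CartDual.D R A) p χ 1 := by
    intro x hx
    obtain ⟨hx1, hx2⟩ := mem_eigenAug_dual.1 hx
    refine mem_eigenAug_dual.2 ⟨?_, fun m a => ?_⟩
    · show x.ofConv (F 1) = 0
      rw [map_one, hx1]
    · show x.ofConv (F _) = _
      rw [hFP, hx2]
      rfl
  have hGp : ∀ φs : List (CartDual.D R A'),
      (∀ x ∈ φs, x ∈ OortTate.eigenAug R (CartDual.D R A') p χ 1) → φs.length = p →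
      G φs.prod = (φs.map G).prod := by
    intro φs hφs hlen
    have hne : φs ≠ [] := by intro h; simp [h] at hlen; omega
    have hψ' : φs.prod ∈ OortTate.eigenAug R (CartDual.D R A') p χ 1 := by
      have := dual_prod_mem hχ hu φs hφs hne
      rwa [hlen, eigenAug_mod, hmodp, ← eigenAug_mod] at this
    have hψ : (φs.map G).prod ∈ OortTate.eigenAug R (CartDual.D R A) p χ 1 := by
      have := dual_prod_mem hχ hu (φs.map G)
        (fun x hx => by obtain ⟨y, hy, rfl⟩ := List.mem_map.1 hx; exact hGmem y (hφs y hy))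
        (by simpa using hne)
      rwa [List.length_map, hlen, eigenAug_mod, hmodp, ← eigenAug_mod] at this
    refine WithConv.ofConv_injective (LinearMap.ext fun a => ?_)
    rw [apply_eq_apply_pr (u' := u') hχ hu (hGmem _ hψ') a, apply_eq_apply_pr (u' := u') hχ hu hψ a]
    let x : OortTate.eigenAug R A p χ 1 := ⟨_, pr_mem hp (u' := u') 1 a⟩
    have hget : ∀ i : Fin p, φs.get (Fin.cast hlen.symm i) ∈ φs := fun i => List.get_mem _ _
    have := hθD (fun i => ⟨G (φs.get (Fin.cast hlen.symm i)), hGmem _ (hφs _ (hget i))⟩)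
      (fun i => ⟨φs.get (Fin.cast hlen.symm i), hφs _ (hget i)⟩) ⟨_, hψ⟩ ⟨_, hψ'⟩
      (fun i z => congrArg (φs.get (Fin.cast hlen.symm i)).ofConv (hF z)) (by
        show (φs.map G).prod = _
        rw [← List.prod_ofFn]
        congr 1
        apply List.ext_getElem <;> simp [hlen]) (by
        show φs.prod = _
        rw [← List.prod_ofFn]
        congr 1
        apply List.ext_getElem <;> simp [hlen]) x
    show φs.prod.ofConv (F x) = _
    rw [hF x]
    exact this.symm
  have hGone : G 1 = 1 := by
    refine WithConv.ofConv_injective (LinearMap.ext fun a => ?_)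
    show algebraMap R R (counit (F a)) = _
    rw [show counit (R := R) (F a) = counit a from AlgHom.congr_fun hε a]
    rfl
  have hGlist : ∀ (n : ℕ) (φs : List (CartDual.D R A')), φs.length = n →
      (∀ x ∈ φs, x ∈ OortTate.eigenAug R (CartDual.D R A') p χ 1) → G φs.prod = (φs.map G).prod := by
    intro n
    induction n using Nat.strong_induction_on with
    | _ n ih =>
      intro φs hlen hφs
      rcases eq_or_ne φs [] with rfl | hne
      · simpa using hGone
      have hn1 : 1 ≤ φs.length := List.length_pos_iff.2 hne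
      have hGφ : ∀ x ∈ φs.map G, x ∈ OortTate.eigenAug R (CartDual.D R A) p χ 1 := fun x hx => by
        obtain ⟨y, hy, rfl⟩ := List.mem_map.1 hx; exact hGmem y (hφs y hy)
      rcases Nat.lt_or_ge n p with hn | hn
      · refine WithConv.ofConv_injective (ext_prods hrk hχ hu hχp fun as has hlas => ?_)
        show φs.prod.ofConv (F as.prod) = _
        rw [map_list_prod]
        rcases eq_or_ne as [] with rfl | hane
        · rw [List.map_nil, List.prod_nil, List.prod_nil,
            (mem_eigenAug_dual.1 (dual_prod_mem hχ hu φs hφs hne)).1,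
            (mem_eigenAug_dual.1 (dual_prod_mem hχ hu _ hGφ (by simpa using hne))).1]
        have hm1 : 1 ≤ as.length := List.length_pos_iff.2 hane
        have hasF : ∀ a ∈ as.map F, a ∈ OortTate.eigenAug R A' p χ 1 := fun a ha => by
          obtain ⟨b, hb, rfl⟩ := List.mem_map.1 ha; exact hFmem b (has b hb)
        by_cases hnm : φs.length = as.length
        · have e1 := pairing_prod hrk' hχ hu hχp hw (φs.zip (as.map F))
            (fun x hx => by obtain ⟨h1, h2⟩ := List.of_mem_zip hx; exact ⟨hφs _ h1, hasF _ h2⟩)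
            (by simp; omega) (by simp; omega)
          have e2 := pairing_prod hrk hχ hu hχp hw ((φs.map G).zip as)
            (fun x hx => by obtain ⟨h1, h2⟩ := List.of_mem_zip hx; exact ⟨hGφ _ h1, has _ h2⟩)
            (by simp; omega) (by simp; omega)
          rw [List.map_fst_zip (by simp [hnm]), List.map_snd_zip (by simp [hnm])] at e1 e2
          rw [e1, e2]
          simp only [List.length_zip, List.length_map, hnm]
          congr 2
          apply List.ext_getElem
          · simp [hnm]
          · intro i h1 h2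
            simp [G]
        · have hmod : φs.length % (p - 1) ≠ as.length % (p - 1) := fun h =>
            hnm (mod_pred_inj hm1 hlas hn1 (by omega) h)
          rw [apply_eq_zero (u' := u') hχ hu (dual_prod_mem hχ hu φs hφs hne)
              (list_prod_mem _ hasF (by simpa using hane)) (by simpa using hmod),
            apply_eq_zero (u' := u') hχ hu (dual_prod_mem hχ hu _ hGφ (by simpa using hne))
              (list_prod_mem _ has hane) (by simpa using hmod)]
      · have htake : (φs.take p).length = p := by rw [List.length_take]; omega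
        have hsub : ∀ x ∈ φs.take p, x ∈ OortTate.eigenAug R (CartDual.D R A') p χ 1 :=
          fun x hx => hφs x (List.mem_of_mem_take hx)
        have hg : (φs.take p).prod ∈ OortTate.eigenAug R (CartDual.D R A') p χ 1 := by
          have := dual_prod_mem hχ hu _ hsub (by intro h; rw [h] at htake; simp at htake; omega)
          rwa [htake, eigenAug_mod, hmodp, ← eigenAug_mod] at this
        have h := ih (n - p + 1) (by omega) ((φs.take p).prod :: φs.drop p)
          (by rw [List.length_cons, List.length_drop]; omega) (by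
            intro a ha
            rcases List.mem_cons.1 ha with rfl | ha
            · exact hg
            · exact hφs a (List.mem_of_mem_drop ha))
        rw [List.prod_cons, List.prod_take_mul_prod_drop, List.map_cons, List.prod_cons, hGp _ hsub htake] at h
        rw [h, ← List.prod_append, ← List.map_append, List.take_append_drop]
  have hGmul : ∀ x y, G (x * y) = G x * G y := by
    intro x y
    have hx := (dual_span_prods hχ hu hχp hrk').ge (Submodule.mem_top (x := x))
    have hy := (dual_span_prods hχ hu hχp hrk').ge (Submodule.mem_top (x := y))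
    have hGadd : ∀ a b, G (a + b) = G a + G b := fun a b => rfl
    have hGsmul : ∀ (r : R) a, G (r • a) = r • G a := fun r a => rfl
    have hG0 : G 0 = 0 := rfl
    induction hx using Submodule.span_induction with
    | mem a ha =>
      obtain ⟨Gs, hGs, rfl⟩ := ha
      induction hy using Submodule.span_induction with
      | mem b hb =>
        obtain ⟨Hs, hHs, rfl⟩ := hb
        rw [← List.prod_append, hGlist _ _ rfl (fun x hx => (List.mem_append.1 hx).elim (hGs x) (hHs x)),
          hGlist _ _ rfl hGs, hGlist _ _ rfl hHs, List.map_append, List.prod_append]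
      | zero => simp [hG0]
      | add a b _ _ ha hb => rw [mul_add, hGadd, hGadd, ha, hb, mul_add]
      | smul r a _ ha => rw [mul_smul_comm, hGsmul, hGsmul, ha, mul_smul_comm]
    | zero => simp [hG0]
    | add a b _ _ ha hb => rw [add_mul, hGadd, hGadd, ha, hb, add_mul]
    | smul r a _ ha => rw [smul_mul_assoc, hGsmul, hGsmul, ha, smul_mul_assoc]
  refine ⟨BialgEquiv.ofAlgEquiv (AlgEquiv.ofAlgHom F F' hFF' hF'F) hε (AlgHom.ext fun a => ?_)⟩
  show TensorProduct.map F.toLinearMap F.toLinearMap (comul a) = comul (F a)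
  rw [← sub_eq_zero, ← Module.forall_dual_apply_eq_zero_iff R]
  intro φ
  obtain ⟨z, rfl⟩ := (CartDual.ev₂ R A').surjective φ
  induction z using TensorProduct.induction_on with
  | zero => simp
  | add z z' hz hz' => rw [map_add, LinearMap.add_apply, hz, hz', add_zero]
  | tmul x y =>
    have h1 : ∀ t : A ⊗[R] A, CartDual.ev₂ R A' (x ⊗ₜ y)
        (TensorProduct.map F.toLinearMap F.toLinearMap t) =
        LinearMap.mul' R R (TensorProduct.map (G x).ofConv (G y).ofConv t) := by
      intro t
      rw [CartDual.ev₂_tmul_eq', LinearMap.comp_apply, ← LinearMap.comp_apply (TensorProduct.map x.ofConv _),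
        ← TensorProduct.map_comp]
    rw [map_sub, h1, CartDual.ev₂_tmul_eq', LinearMap.comp_apply, sub_eq_zero]
    exact (congrArg (fun q : CartDual.D R A => q.ofConv a) (hGmul x y)).symm

end Groth.Agent.OT
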