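import Groth.Agent.Lib.OT.Pair

/-!
Extending a linear map on `I₁` to the whole algebra.
-/

universe u v

open TensorProduct Coalgebra WithConv SGA3b

namespace Groth.Agent.OT

set_option linter.unusedSectionVars false
set_option linter.style.haveILetI false

variable {R : Type u} [CommRing R] {A : Type u} [CommRing A] [HopfAlgebra R A] [IsCocomm R A]
  [Module.Finite R A] [Module.Projective R A]
  {p : ℕ} [hpF : Fact p.Prime] {χ : (ZMod p)ˣ →* Rˣ} {u' : R}
  (hrk : ∀ q : PrimeSpectrum R, Module.rankAtStalk A q = p)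
  (hχ : ∀ m : (ZMod p)ˣ, m ≠ 1 → IsUnit ((χ m : R) - 1)) (hu : u' * ((p - 1 : ℕ) : R) = 1)
  (hχp : ∀ m : (ZMod p)ˣ, ((χ m : Rˣ) : R) - (((m : ZMod p).val : ℕ) : R) ∈
    Ideal.span ({(p : R)} : Set R))

include hrk hχ hu hχp

/-- A dual basis of `I₁`, with forms extended to `A`. -/
theorem exists_dualBasis : ∃ (n : ℕ) (e : Fin n → A) (G : Fin n → CartDual.D R A),
    (∀ k, e k ∈ OortTate.eigenAug R A p χ 1) ∧
      (∀ k, G k ∈ OortTate.eigenAug R (CartDual.D R A) p χ 1) ∧
      ∀ b : A, pr (p := p) u' χ 1 b = ∑ k, (G k).ofConv b • e k := by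
  have hp := killed_of_rank hrk
  obtain ⟨hfin, hproj, -⟩ := eigenAug_rank hrk hχ hu hχp (p := p) 1
  obtain ⟨n, f, hf⟩ := Module.Finite.exists_fin' R (OortTate.eigenAug R A p χ 1)
  obtain ⟨s, hs⟩ := Module.projective_lifting_property f LinearMap.id hf
  let π' : A →ₗ[R] OortTate.eigenAug R A p χ 1 :=
    LinearMap.codRestrict _ (pr (p := p) u' χ 1) (pr_mem hp 1)
  refine ⟨n, fun k => (f (Pi.single k 1) : A), fun k => toConv ((LinearMap.proj k ∘ₗ s) ∘ₗ π'),
    fun k => (f _).2, fun k => ?_, fun b => ?_⟩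
  · refine mem_eigenAug_dual.2 ⟨?_, fun m a => ?_⟩
    · rw [ofConv_toConv, LinearMap.comp_apply, show π' 1 = 0 from Subtype.ext (pr_one u' 1), map_zero]
    · rw [ofConv_toConv, LinearMap.comp_apply, LinearMap.comp_apply,
        show π' (powConv R A (m : ZMod p).val a) = ((χ m : Rˣ) : R) ^ 1 • π' a from
          Subtype.ext (pr_powConv hp 1 m a)]
      simp
  · have h := LinearMap.congr_fun hs (π' b)
    rw [LinearMap.comp_apply, LinearMap.id_apply] at h
    have h2 : (π' b : A) = ((f (s (π' b)) : OortTate.eigenAug R A p χ 1) : A) := by rw [h]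
    show (π' b : A) = _
    rw [h2]
    conv_lhs => rw [pi_eq_sum_univ' (s (π' b))]
    simp only [map_sum, map_smul, Submodule.coe_sum, Submodule.coe_smul]
    rfl

omit hrk hχ hu hχp

/-- The extension of `θ` to an algebra map candidate. -/
noncomputable def liftI (u' : R) (w : ℕ → R) (χ : (ZMod p)ˣ →* Rˣ) {T : Type v} [Semiring T]
    [Algebra R T] (θ : A →ₗ[R] T) : A →ₗ[R] T :=
  (1 + ∑ t ∈ Finset.Icc 1 (p - 1),
    Ring.inverse (w t) • (toConv (θ ∘ₗ pr (p := p) u' χ 1) : WithConv (A →ₗ[R] T)) ^ t).ofConv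

variable {T : Type v} [Semiring T] [Algebra R T] (θ : A →ₗ[R] T)

lemma thetaPow_one {t : ℕ} (ht : t ≠ 0) :
    ((toConv (θ ∘ₗ pr (p := p) u' χ 1) : WithConv (A →ₗ[R] T)) ^ t).ofConv 1 = 0 := by
  obtain ⟨s, rfl⟩ := Nat.exists_eq_succ_of_ne_zero ht
  rw [pow_succ, convMul_apply_one]
  simp [pr_one]

lemma liftI_one (w : ℕ → R) : liftI (p := p) u' w χ θ 1 = 1 := by
  simp only [liftI, WithConv.ofConv_add, LinearMap.add_apply, WithConv.ofConv_sum, LinearMap.sum_apply,
    WithConv.ofConv_smul, LinearMap.smul_apply]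
  rw [Finset.sum_eq_zero fun t ht => by
    rw [thetaPow_one θ (by simp only [Finset.mem_Icc] at ht; omega), smul_zero]]
  simp

include hχ hu in
lemma dual_prod_mem (L : List (CartDual.D R A))
    (hL : ∀ G ∈ L, G ∈ OortTate.eigenAug R (CartDual.D R A) p χ 1) (h : L ≠ []) :
    L.prod ∈ OortTate.eigenAug R (CartDual.D R A) p χ L.length := by
  induction L with
  | nil => exact absurd rfl h
  | cons G L ih =>
    rcases eq_or_ne L [] with rfl | hne
    · simpa using hL G List.mem_cons_self
    · rw [List.prod_cons, List.length_cons, add_comm]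
      exact mul_mem_eigenAug (hL G List.mem_cons_self)
        (ih (fun x hx => hL x (List.mem_cons_of_mem G hx)) hne)

lemma list_prod_mem (L : List A)
    (hL : ∀ G ∈ L, G ∈ OortTate.eigenAug R A p χ 1) (h : L ≠ []) :
    L.prod ∈ OortTate.eigenAug R A p χ L.length := by
  induction L with
  | nil => exact absurd rfl h
  | cons G L ih =>
    rcases eq_or_ne L [] with rfl | hne
    · simpa using hL G List.mem_cons_self
    · rw [List.prod_cons, List.length_cons, add_comm]
      exact mul_mem_eigenAug (hL G List.mem_cons_self)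
        (ih (fun x hx => hL x (List.mem_cons_of_mem G hx)) hne)

include hrk hχ hu hχp

variable {w : ℕ → R}
  (hw : ∀ t, 1 ≤ t → t ≤ p - 1 → IsUnit (w t) ∧
      OortTate.ygen R p u' χ 1 ^ t = w t • OortTate.ygen R p u' χ t)

include hw in
lemma thetaPow_prod_aux (t : ℕ) (ht : 1 ≤ t) (ht' : t ≤ p - 1) : ∀ (s : ℕ)
    (Pre : List (CartDual.D R A × A)) (as : List A),
    (∀ x ∈ Pre, x.1 ∈ OortTate.eigenAug R (CartDual.D R A) p χ 1 ∧ x.2 ∈ OortTate.eigenAug R A p χ 1) →
    (∀ a ∈ as, a ∈ OortTate.eigenAug R A p χ 1) → as.length = s → Pre.length + s = t →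
    (sc (Pre.map Prod.fst).prod (1 : T) *
        (toConv (θ ∘ₗ pr (p := p) u' χ 1) : WithConv (A →ₗ[R] T)) ^ s).ofConv
      ((Pre.map Prod.snd).prod * as.prod) =
      (w t * (Pre.map fun x => x.1.ofConv x.2).prod) • (as.map θ).prod
  | 0, Pre, as, hPre, _, hlen, htot => by
    rw [List.length_eq_zero_iff] at hlen
    subst hlen
    simp only [List.prod_nil, mul_one, pow_zero, List.map_nil, sc_apply]
    rw [add_zero] at htot
    rw [pairing_prod hrk hχ hu hχp hw Pre hPre (by omega) (by omega), htot]
  | s + 1, Pre, as, hPre, has, hlen, htot => by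
    obtain ⟨n, e, G, he, hG, hsum⟩ := exists_dualBasis hrk hχ hu hχp
    obtain ⟨a, as, rfl⟩ := List.exists_cons_of_length_eq_add_one hlen
    have ha := has a List.mem_cons_self
    have hθ : (toConv (θ ∘ₗ pr (p := p) u' χ 1) : WithConv (A →ₗ[R] T)) = ∑ k, sc (G k) (θ (e k)) := by
      ext b
      simp [hsum b]
    have hstep : ∀ k, (sc (Pre.map Prod.fst).prod (1 : T) * (sc (G k) (θ (e k)) *
        (toConv (θ ∘ₗ pr (p := p) u' χ 1) : WithConv (A →ₗ[R] T)) ^ s)).ofConv
          ((Pre.map Prod.snd).prod * (a :: as).prod) =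
        (w t * (Pre.map fun x => x.1.ofConv x.2).prod) • ((G k).ofConv a • (θ (e k) * (as.map θ).prod)) := by
      intro k
      rw [← mul_assoc, sc_mul_sc, one_mul, sc_mul_apply]
      have ih := thetaPow_prod_aux t ht ht' s (Pre ++ [(G k, a)]) as ?_
        (fun x hx => has x (List.mem_cons_of_mem a hx)) (by simpa using hlen)
        (by simp only [List.length_append, List.length_singleton]; omega)
      · simp only [List.map_append, List.prod_append, List.map_cons, List.map_nil, List.prod_singleton] at ih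
        rw [List.prod_cons, ← mul_assoc, ih, mul_smul_comm, smul_smul, mul_assoc]
      · intro x hx
        rcases List.mem_append.1 hx with hx | hx
        · exact hPre x hx
        · rw [List.mem_singleton] at hx
          subst hx
          exact ⟨hG k, ha⟩
    rw [pow_succ']
    conv_lhs => enter [1, 1, 2, 1]; rw [hθ]
    rw [Finset.sum_mul, Finset.mul_sum, WithConv.ofConv_sum, LinearMap.sum_apply,
      Finset.sum_congr rfl fun k _ => hstep k, ← Finset.smul_sum]
    simp only [← smul_mul_assoc, ← Finset.sum_mul, ← map_smul, ← map_sum, ← hsum]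
    rw [map_smul, map_smul, smul_mul_assoc, pr_of_mem hχ hu ha, if_pos rfl, one_smul, List.map_cons,
      List.prod_cons]

lemma thetaPow_zero_aux {t : ℕ} {b : A} (hb : b ∈ OortTate.eigenAug R A p χ t) : ∀ (s : ℕ)
    (Gs : List (CartDual.D R A)), (∀ G ∈ Gs, G ∈ OortTate.eigenAug R (CartDual.D R A) p χ 1) →
    Gs.length + s ≠ 0 → (Gs.length + s) % (p - 1) ≠ t % (p - 1) →
    (sc Gs.prod (1 : T) *
      (toConv (θ ∘ₗ pr (p := p) u' χ 1) : WithConv (A →ₗ[R] T)) ^ s).ofConv b = 0
  | 0, Gs, hGs, hne, hmod => by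
    rw [add_zero] at hne hmod
    simp only [pow_zero, mul_one, sc_apply]
    rw [apply_eq_zero (u' := u') hχ hu (dual_prod_mem hχ hu Gs hGs (by
      intro h; exact hne (by simp [h]))) hb hmod, zero_smul]
  | s + 1, Gs, hGs, hne, hmod => by
    obtain ⟨n, e, G, he, hG, hsum⟩ := exists_dualBasis hrk hχ hu hχp
    have hθ : (toConv (θ ∘ₗ pr (p := p) u' χ 1) : WithConv (A →ₗ[R] T)) = ∑ k, sc (G k) (θ (e k)) := by
      ext c
      simp [hsum c]
    rw [pow_succ']
    conv_lhs => enter [1, 1, 2, 1]; rw [hθ]
    rw [Finset.sum_mul, Finset.mul_sum, WithConv.ofConv_sum, LinearMap.sum_apply]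
    refine Finset.sum_eq_zero fun k _ => ?_
    rw [← mul_assoc, sc_mul_sc, one_mul, sc_mul_apply]
    have ih := thetaPow_zero_aux hb s (Gs ++ [G k]) ?_
      (by simp) (by simpa [add_assoc, add_comm 1 s] using hmod)
    · simp only [List.prod_append, List.prod_singleton] at ih
      rw [ih, mul_zero]
    · intro x hx
      rcases List.mem_append.1 hx with hx | hx
      · exact hGs x hx
      · exact (List.mem_singleton.1 hx) ▸ hG k

include hw in
/-- The extension on short products. -/
theorem liftI_prod (as : List A) (has : ∀ a ∈ as, a ∈ OortTate.eigenAug R A p χ 1)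
    (hlen : as.length ≤ p - 1) :
    liftI (p := p) u' w χ θ as.prod = (as.map θ).prod := by
  rcases eq_or_ne as [] with rfl | hne
  · simp [liftI_one]
  have h1 : 1 ≤ as.length := List.length_pos_iff.2 hne
  have hb := list_prod_mem as has hne
  simp only [liftI, WithConv.ofConv_add, LinearMap.add_apply, WithConv.ofConv_sum, LinearMap.sum_apply,
    WithConv.ofConv_smul, LinearMap.smul_apply]
  rw [Finset.sum_eq_single as.length]
  · have := thetaPow_prod_aux hrk hχ hu hχp θ hw as.length h1 hlen as.length [] as (by simp) has rfl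
      (by simp)
    simp only [List.map_nil, List.prod_nil, one_mul, mul_one] at this
    rw [sc_one, one_mul] at this
    rw [this, smul_smul, Ring.inverse_mul_cancel _ (hw _ h1 hlen).1, one_smul,
      LinearMap.convOne_apply, ((mem_eigenAug χ).1 hb).1, map_zero, zero_add]
  · intro t ht hne'
    rw [Finset.mem_Icc] at ht
    have := thetaPow_zero_aux hrk hχ hu hχp θ hb t [] (by simp) (by simp; omega) (by
      simp only [List.length_nil, zero_add]
      exact fun h => hne' (mod_pred_inj h1 hlen ht.1 ht.2 h))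
    rw [List.prod_nil, sc_one, one_mul] at this
    rw [this, smul_zero]
  · intro h
    rw [Finset.mem_Icc] at h
    omega

/-- Short products span. -/
theorem span_prods :
    Submodule.span R {x : A | ∃ as : List A, (∀ a ∈ as, a ∈ OortTate.eigenAug R A p χ 1) ∧
      as.length ≤ p - 1 ∧ as.prod = x} = ⊤ := by
  set P := Submodule.span R {x : A | ∃ as : List A, (∀ a ∈ as, a ∈ OortTate.eigenAug R A p χ 1) ∧
      as.length ≤ p - 1 ∧ as.prod = x}
  have hpow : ∀ t, OortTate.eigenAug R A p χ 1 ^ t ≤
      Submodule.span R {x : A | ∃ as : List A, (∀ a ∈ as, a ∈ OortTate.eigenAug R A p χ 1) ∧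
        as.length = t ∧ as.prod = x} := by
    intro t
    induction t with
    | zero =>
      rw [pow_zero, Submodule.one_eq_span, Submodule.span_le, Set.singleton_subset_iff]
      exact Submodule.subset_span ⟨[], by simp, rfl, rfl⟩
    | succ t ih =>
      rw [pow_succ']
      refine (Submodule.mul_le.2 fun a ha b hb => Submodule.mul_mem_mul ha (ih hb)).trans ?_
      conv_lhs => rw [← Submodule.span_eq (OortTate.eigenAug R A p χ 1), Submodule.span_mul_span]
      refine Submodule.span_le.2 ?_
      rintro _ ⟨a, ha, _, ⟨as, has, hlen, rfl⟩, rfl⟩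
      exact Submodule.subset_span ⟨a :: as, by simpa [Submodule.span_eq] using And.intro ha has, by simp [hlen], by simp⟩
  rw [eq_top_iff]
  intro a _
  have h1 : (1 : A) ∈ P := Submodule.subset_span ⟨[], by simp, Nat.zero_le _, rfl⟩
  have hker : a - algebraMap R A (counit a) ∈ P := by
    have hmem : a - algebraMap R A (counit a) ∈
        (⨆ i : Fin (p - 1), OortTate.eigenAug R A p χ (i : ℕ)) := by
      rw [iSup_eigenAug (killed_of_rank hrk) hχ hu]; simp
    refine (iSup_le fun i => ?_ : (⨆ i : Fin (p - 1), OortTate.eigenAug R A p χ (i : ℕ)) ≤ P) hmem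
    obtain ⟨h1', h2', h3'⟩ := red_spec (p := p) (i : ℕ)
    rw [eigenAug_mod, ← h3', ← eigenAug_mod, ← eigenAug_pow hrk hχ hu hχp h1' h2']
    refine (hpow _).trans (Submodule.span_mono ?_)
    rintro x ⟨as, has, hlen, rfl⟩
    exact ⟨as, has, by omega, rfl⟩
  have := add_mem hker (P.smul_mem (counit a) h1)
  rwa [Algebra.algebraMap_eq_smul_one, sub_add_cancel] at this

/-- Two linear maps agreeing on short products are equal. -/
theorem ext_prods {M : Type*} [AddCommMonoid M] [Module R M] {f g : A →ₗ[R] M}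
    (h : ∀ as : List A, (∀ a ∈ as, a ∈ OortTate.eigenAug R A p χ 1) → as.length ≤ p - 1 →
      f as.prod = g as.prod) : f = g :=
  LinearMap.ext_on (span_prods hrk hχ hu hχp) fun _ ⟨as, h1, h2, h3⟩ => h3 ▸ h as h1 h2

/-- Products of `p` elements of `I₁` lie in `I₁`. -/
theorem prod_prime_mem (as : List A) (has : ∀ a ∈ as, a ∈ OortTate.eigenAug R A p χ 1)
    (hlen : as.length = p) : as.prod ∈ OortTate.eigenAug R A p χ 1 := by
  have h1p := hpF.out.one_lt
  have hm := list_prod_mem as has (by intro h; simp [h] at hlen; omega)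
  rwa [hlen, eigenAug_mod, show p % (p - 1) = 1 % (p - 1) by
    rw [Nat.mod_eq_sub_mod (Nat.sub_le p 1)]; congr 1; omega, ← eigenAug_mod] at hm

include hw in
/-- The extension on all products, given compatibility with `p`-fold products. -/
theorem liftI_prod_all
    (hθ : ∀ as : List A, (∀ a ∈ as, a ∈ OortTate.eigenAug R A p χ 1) → as.length = p →
      θ as.prod = (as.map θ).prod) :
    ∀ (n : ℕ) (as : List A), as.length = n → (∀ a ∈ as, a ∈ OortTate.eigenAug R A p χ 1) →
      liftI (p := p) u' w χ θ as.prod = (as.map θ).prod := by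
  intro n
  induction n using Nat.strong_induction_on with
  | _ n ih =>
    intro as hlen has
    rcases Nat.lt_or_ge n p with hn | hn
    · exact liftI_prod hrk hχ hu hχp θ hw as has (by omega)
    · have h1p := hpF.out.one_lt
      have htake : (as.take p).length = p := by rw [List.length_take]; omega
      have hg := prod_prime_mem hrk hχ hu hχp (as.take p) (fun a ha => has a (List.mem_of_mem_take ha)) htake
      have h := ih (n - p + 1) (by omega) ((as.take p).prod :: as.drop p)
        (by rw [List.length_cons, List.length_drop]; omega)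
        (by
          intro a ha
          rcases List.mem_cons.1 ha with rfl | ha
          · exact hg
          · exact has a (List.mem_of_mem_drop ha))
      rw [List.prod_cons, List.prod_take_mul_prod_drop, List.map_cons, List.prod_cons,
        hθ _ (fun a ha => has a (List.mem_of_mem_take ha)) htake] at h
      rw [h, ← List.prod_append, ← List.map_append, List.take_append_drop]

end Groth.Agent.OT
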