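import Groth.Agent.Lib.OT.Rank
import Mathlib.RingTheory.HopfAlgebra.MonoidAlgebra
import Mathlib.Algebra.MonoidAlgebra.Module
import Mathlib.RingTheory.Bialgebra.GroupLike

/-!
The group scheme `μ_p` and the universal constants `w_t`.
-/

universe u

open TensorProduct Coalgebra WithConv SGA3b

namespace Groth.Agent.OT

set_option linter.style.haveILetI false

set_option linter.unusedSectionVars false

section Generic

variable {R : Type u} [CommRing R] {A : Type u} [CommRing A] [HopfAlgebra R A]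

lemma powConv_groupLike {g : A} (hg : IsGroupLikeElem R g) (n : ℕ) : powConv R A n g = g ^ n := by
  induction n with
  | zero => simp [powConv, hg.counit_eq_one]
  | succ n ih =>
    have h : powConv R A (n + 1) g =
        LinearMap.mul' R A (TensorProduct.map (powConv R A n).toLinearMap LinearMap.id (comul g)) := by
      unfold powConv
      rw [pow_succ]
      rfl
    rw [h, hg.comul_eq_tmul_self]
    simp [ih, pow_succ]

variable {p : ℕ} [hpF : Fact p.Prime] [Module.Finite R A] [Module.Projective R A]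
  (hrk : ∀ q : PrimeSpectrum R, Module.rankAtStalk A q = p)
  {χ : (ZMod p)ˣ →* Rˣ} {u' : R}
  (hχ : ∀ m : (ZMod p)ˣ, m ≠ 1 → IsUnit ((χ m : R) - 1)) (hu : u' * ((p - 1 : ℕ) : R) = 1)
  (hχp : ∀ m : (ZMod p)ˣ, ((χ m : Rˣ) : R) - (((m : ZMod p).val : ℕ) : R) ∈
    Ideal.span ({(p : R)} : Set R))
  {z : A} (hz : Submodule.span R {z} = OortTate.eigenAug R A p χ 1)

include hrk hχ hu hχp hz

lemma span_pow_eq {t : ℕ} (ht : 1 ≤ t) (ht' : t ≤ p - 1) :
    OortTate.eigenAug R A p χ t = Submodule.span R {z ^ t} := by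
  rw [← eigenAug_pow hrk hχ hu hχp ht ht', ← hz, Submodule.span_pow, Set.singleton_pow]

lemma smul_pow_eq_zero {t : ℕ} (ht : 1 ≤ t) (ht' : t ≤ p - 1) {r : R} (hr : r • z ^ t = 0) : r = 0 := by
  refine Module.eq_of_localization_maximal (fun m [m.IsMaximal] => Localization.AtPrime m)
    (fun m [m.IsMaximal] => Algebra.linearMap R (Localization.AtPrime m)) _ _ fun m hm => ?_
  let S := Localization.AtPrime m
  obtain ⟨y, hy, B, hB⟩ := exists_gen_localization hrk hχ hu hχp ⟨m, inferInstance⟩
  obtain ⟨hspan, hfree⟩ :=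
    eigenAug_eq_span_of_basis (chiMap_isUnit S hχ) (map_u S hu) hy B hB ht ht'
  have h1 : y ^ t ∈ Submodule.span S {((1 : S) ⊗ₜ[R] (z ^ t))} := by
    have := eigenAug_baseChange_le S (killed_of_rank hrk) hχ hu t
      (hspan.symm ▸ Submodule.mem_span_singleton_self (y ^ t))
    rw [span_pow_eq hrk hχ hu hχp hz ht ht'] at this
    refine (Submodule.span_le.2 ?_) this
    rintro _ ⟨a, ha, rfl⟩
    obtain ⟨c, rfl⟩ := Submodule.mem_span_singleton.1 ha
    show (1 : S) ⊗ₜ[R] (c • z ^ t) ∈ _
    rw [show (1 : S) ⊗ₜ[R] (c • z ^ t) = algebraMap R S c • ((1 : S) ⊗ₜ[R] (z ^ t)) by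
      rw [algebraMap_smul, TensorProduct.tmul_smul]]
    exact Submodule.smul_mem _ _ (Submodule.mem_span_singleton_self _)
  obtain ⟨c, hc⟩ := Submodule.mem_span_singleton.1 h1
  rw [map_zero, Algebra.linearMap_apply]
  refine hfree _ ?_
  rw [← hc, smul_comm, algebraMap_smul, ← TensorProduct.tmul_smul, hr, TensorProduct.tmul_zero,
    smul_zero]

/-- The powers of a generator of `I₁` form a basis. -/
lemma powers_basis :
    LinearIndependent R (fun i : Fin p => z ^ (i : ℕ)) ∧
      Submodule.span R (Set.range fun i : Fin p => z ^ (i : ℕ)) = ⊤ := by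
  have hzm : z ∈ OortTate.eigenAug R A p χ 1 := hz ▸ Submodule.mem_span_singleton_self z
  have h1p := hpF.out.one_lt
  constructor
  · rw [Fintype.linearIndependent_iff]
    intro c hc t
    have h0 : c ⟨0, hpF.out.pos⟩ = 0 := by rw [← counit_sum_pow hzm c, hc, map_zero]
    rcases Nat.eq_zero_or_pos (t : ℕ) with ht | ht
    · exact (show t = ⟨0, hpF.out.pos⟩ from Fin.ext ht) ▸ h0
    · have := proj_sum_pow hχ hu hzm c
        (fun i hi => (show i = ⟨0, hpF.out.pos⟩ from Fin.ext hi) ▸ h0) t ht
      rw [hc, map_zero] at this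
      exact smul_pow_eq_zero hrk hχ hu hχp hz ht (by have := t.2; omega) this.symm
  · set P := Submodule.span R (Set.range fun i : Fin p => z ^ (i : ℕ))
    rw [eq_top_iff]
    intro a _
    have h1 : (1 : A) ∈ P := Submodule.subset_span ⟨⟨0, hpF.out.pos⟩, pow_zero z⟩
    have hker : a - algebraMap R A (counit a) ∈ P := by
      have hmem : a - algebraMap R A (counit a) ∈
          (⨆ i : Fin (p - 1), OortTate.eigenAug R A p χ (i : ℕ)) := by
        rw [iSup_eigenAug (killed_of_rank hrk) hχ hu]; simp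
      refine (iSup_le fun i => ?_ : (⨆ i : Fin (p - 1), OortTate.eigenAug R A p χ (i : ℕ)) ≤ P) hmem
      obtain ⟨h1', h2', h3'⟩ := red_spec (p := p) (i : ℕ)
      rw [eigenAug_mod, ← h3', ← eigenAug_mod, span_pow_eq hrk hχ hu hχp hz h1' h2', Submodule.span_le,
        Set.singleton_subset_iff]
      exact Submodule.subset_span ⟨⟨red p i, by omega⟩, rfl⟩
    have := add_mem hker (P.smul_mem (counit a) h1)
    rwa [Algebra.algebraMap_eq_smul_one, sub_add_cancel] at this

end Generic

section Mu

variable {p : ℕ} [hpF : Fact p.Prime] {R : Type u} [CommRing R]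
  {χ : (ZMod p)ˣ →* Rˣ} {u' : R}
  (hχ : ∀ m : (ZMod p)ˣ, m ≠ 1 → IsUnit ((χ m : R) - 1)) (hu : u' * ((p - 1 : ℕ) : R) = 1)
  (hχp : ∀ m : (ZMod p)ˣ, ((χ m : Rˣ) : R) - (((m : ZMod p).val : ℕ) : R) ∈
    Ideal.span ({(p : R)} : Set R))

variable (p R) in
/-- The standard basis of the group algebra of `ZMod p`. -/
noncomputable def muBasis : Module.Basis (Fin p) R (MonoidAlgebra R (Multiplicative (ZMod p))) :=
  (MonoidAlgebra.basis (Multiplicative (ZMod p)) R).reindex
    (Multiplicative.toAdd.trans (ZMod.finEquiv p).symm.toEquiv)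

instance instFiniteMu : Module.Finite R (MonoidAlgebra R (Multiplicative (ZMod p))) :=
  Module.Finite.of_basis (muBasis p R)

instance instFreeMu : Module.Free R (MonoidAlgebra R (Multiplicative (ZMod p))) :=
  Module.Free.of_basis (muBasis p R)

lemma rank_mu (q : PrimeSpectrum R) :
    Module.rankAtStalk (MonoidAlgebra R (Multiplicative (ZMod p))) q = p := by
  haveI : Nontrivial R := q.nontrivial
  rw [Module.rankAtStalk_eq_finrank_of_free, Pi.natCast_def]
  simp [Module.finrank_eq_card_basis (muBasis p R)]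

lemma muT_pow (k : ℕ) :
    OortTate.muT R p ^ k = MonoidAlgebra.of R _ (Multiplicative.ofAdd ((k : ZMod p))) := by
  rw [← map_pow, ← ofAdd_nsmul, nsmul_one]

lemma powConv_muT_sub_one (k : ℕ) :
    powConv R (MonoidAlgebra R (Multiplicative (ZMod p))) k (OortTate.muT R p - 1) =
      OortTate.muT R p ^ k - 1 := by
  rw [map_sub, map_one, powConv_groupLike (MonoidAlgebra.isGroupLikeElem_of _)]

variable (p R) in
/-- The coefficient of `T`. -/
noncomputable def coordT : MonoidAlgebra R (Multiplicative (ZMod p)) →ₗ[R] R :=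
  (MonoidAlgebra.basis (Multiplicative (ZMod p)) R).coord (Multiplicative.ofAdd 1)

lemma coordT_pow (k : ℕ) :
    coordT p R (OortTate.muT R p ^ k - 1) = if (k : ZMod p) = 1 then 1 else 0 := by
  classical
  have h : ∀ g : Multiplicative (ZMod p),
      coordT p R (MonoidAlgebra.of R _ g) = if g = Multiplicative.ofAdd 1 then 1 else 0 := by
    intro g
    rw [MonoidAlgebra.of_apply, ← MonoidAlgebra.basis_apply R g, coordT, Module.Basis.coord_apply,
      Module.Basis.repr_self, Finsupp.single_apply]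
  rw [map_sub, muT_pow, h, ← map_one (MonoidAlgebra.of R (Multiplicative (ZMod p))), h,
    if_neg (show (1 : Multiplicative (ZMod p)) ≠ Multiplicative.ofAdd 1 from fun e =>
      zero_ne_one (Multiplicative.ofAdd.injective e)), sub_zero]
  simp [Multiplicative.ofAdd.injective.eq_iff]

lemma coordT_ygen (i : ℕ) : coordT p R (OortTate.ygen R p u' χ i) = u' := by
  classical
  have e : ∀ m : (ZMod p)ˣ,
      coordT p R (powConv R _ (m : ZMod p).val (OortTate.muT R p - 1)) = if m = 1 then 1 else 0 := by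
    intro m
    rw [powConv_muT_sub_one, coordT_pow, ZMod.natCast_zmod_val]
    simp [Units.val_eq_one]
  simp only [OortTate.ygen, OortTate.proj, LinearMap.smul_apply, LinearMap.sum_apply,
    AlgHom.toLinearMap_apply, map_smul, map_sum, e, smul_eq_mul, mul_ite, mul_one, mul_zero]
  simp

lemma ygen_mod (i : ℕ) : OortTate.ygen R p u' χ i = OortTate.ygen R p u' χ (i % (p - 1)) := by
  simp only [OortTate.ygen, OortTate.proj, ← chi_pow_mod]

lemma counit_muT : counit (R := R) (OortTate.muT R p - 1) = 0 := by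
  rw [map_sub, (MonoidAlgebra.isGroupLikeElem_of (R := R) _).counit_eq_one, Bialgebra.counit_one, sub_self]

include hu in
lemma isUnit_u : IsUnit u' := IsUnit.of_mul_eq_one _ hu

lemma killed_mu : (toConv (AlgHom.id R (MonoidAlgebra R (Multiplicative (ZMod p))))) ^ p = 1 :=
  killed_of_basis (muBasis p R)

lemma ygen_mem (i : ℕ) :
    OortTate.ygen R p u' χ i ∈
      OortTate.eigenAug R (MonoidAlgebra R (Multiplicative (ZMod p))) p χ i :=
  proj_mem killed_mu χ u' i counit_muT

include hu in
lemma smul_ygen_eq_zero (i : ℕ) {r : R} (h : r • OortTate.ygen R p u' χ i = 0) : r = 0 := by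
  have := congrArg (coordT p R) h
  rw [map_smul, coordT_ygen, map_zero, smul_eq_mul] at this
  exact (isUnit_u hu).mul_left_eq_zero.1 this

include hχ hu in
lemma span_ygen :
    Submodule.span R (Set.range fun i : Fin (p - 1) => OortTate.ygen R p u' χ (i : ℕ)) =
      LinearMap.ker (Bialgebra.counitAlgHom R
        (MonoidAlgebra R (Multiplicative (ZMod p)))).toLinearMap := by
  refine le_antisymm (Submodule.span_le.2 ?_) fun f hf => ?_
  · rintro _ ⟨i, rfl⟩
    exact ((mem_eigenAug χ).1 (ygen_mem (i : ℕ))).1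
  · set P := Submodule.span R (Set.range fun i : Fin (p - 1) => OortTate.ygen R p u' χ (i : ℕ))
    have hT : ∀ m : (ZMod p)ˣ, OortTate.muT R p ^ (m : ZMod p).val - 1 ∈ P := by
      intro m
      rw [← sum_proj (killed_mu (R := R)) hχ hu (OortTate.muT R p ^ (m : ZMod p).val - 1)]
      refine Submodule.sum_mem _ fun i _ => ?_
      rw [← powConv_muT_sub_one]
      have := ((mem_eigenAug χ).1 (ygen_mem (u' := u') (χ := χ) (i : ℕ) (p := p) (R := R))).2 m
      have hc : OortTate.proj R _ p u' χ (i : ℕ)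
          (powConv R _ (m : ZMod p).val (OortTate.muT R p - 1)) =
            powConv R _ (m : ZMod p).val (OortTate.ygen R p u' χ (i : ℕ)) := by
        simp only [OortTate.ygen, OortTate.proj, LinearMap.smul_apply, LinearMap.sum_apply,
          AlgHom.toLinearMap_apply, map_smul, map_sum, ← AlgHom.comp_apply, powConv_comp, mul_comm]
      rw [hc, this]
      exact Submodule.smul_mem _ _ (Submodule.subset_span ⟨i, rfl⟩)
    have hf' : f - algebraMap R _ (counit (R := R) f) = f := by
      rw [show counit (R := R) f = 0 from hf, map_zero, sub_zero]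
    rw [← hf']
    clear hf' hf
    induction f using MonoidAlgebra.induction_on with
    | of g =>
      rw [(MonoidAlgebra.isGroupLikeElem_of (R := R) g).counit_eq_one, map_one]
      by_cases hg : g = 1
      · simp [hg, MonoidAlgebra.one_def]
      · have hz : Multiplicative.toAdd g ≠ 0 := fun h => hg (Multiplicative.toAdd.injective (by simpa using h))
        have := hT (Units.mk0 _ hz)
        rwa [muT_pow, Units.val_mk0, ZMod.natCast_zmod_val, ofAdd_toAdd] at this
    | add f g hf hg =>
      rw [map_add, map_add, add_sub_add_comm]; exact add_mem hf hg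
    | smul r f hf =>
      rw [map_smul, smul_eq_mul, map_mul, ← Algebra.smul_def, ← smul_sub]
      exact Submodule.smul_mem _ _ hf

include hχ hu in
lemma linearIndependent_ygen :
    LinearIndependent R (fun i : Fin (p - 1) => OortTate.ygen R p u' χ (i : ℕ)) := by
  rw [Fintype.linearIndependent_iff]
  intro c hc j
  have := congrArg (OortTate.proj R _ p u' χ (j : ℕ)) hc
  rw [map_sum, Finset.sum_eq_single j, map_smul, proj_of_mem hχ hu (ygen_mem (j : ℕ)), if_pos rfl,
    one_smul, map_zero] at this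
  · exact smul_ygen_eq_zero hu _ this
  · intro i _ hi
    rw [map_smul, proj_of_mem hχ hu (ygen_mem (i : ℕ)), if_neg, zero_smul, smul_zero]
    rw [Nat.mod_eq_of_lt i.2, Nat.mod_eq_of_lt j.2]
    exact fun h => hi (Fin.ext h.symm)
  · intro h; exact absurd (Finset.mem_univ j) h

include hχ hu in
lemma eigenAug_mu (t : ℕ) :
    OortTate.eigenAug R (MonoidAlgebra R (Multiplicative (ZMod p))) p χ t =
      Submodule.span R {OortTate.ygen R p u' χ t} := by
  refine le_antisymm (fun f hf => ?_) (Submodule.span_le.2 (Set.singleton_subset_iff.2 (ygen_mem t)))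
  have hker : f ∈ Submodule.span R (Set.range fun i : Fin (p - 1) => OortTate.ygen R p u' χ (i : ℕ)) := by
    rw [span_ygen hχ hu]; exact ((mem_eigenAug χ).1 hf).1
  have hf' : OortTate.proj R _ p u' χ t f = f := by
    rw [proj_of_mem hχ hu hf, if_pos rfl, one_smul]
  rw [← hf']
  have hle : Submodule.span R (Set.range fun i : Fin (p - 1) => OortTate.ygen R p u' χ (i : ℕ)) ≤
      (Submodule.span R {OortTate.ygen R p u' χ t}).comap (OortTate.proj R _ p u' χ t) := by
    rw [Submodule.span_le]
    rintro _ ⟨i, rfl⟩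
    rw [SetLike.mem_coe, Submodule.mem_comap, proj_of_mem hχ hu (ygen_mem (i : ℕ))]
    split_ifs with h
    · rw [one_smul, ygen_mod (i : ℕ), ← h, ← ygen_mod]
      exact Submodule.mem_span_singleton_self _
    · simp
  exact hle hker

include hχ hu hχp in
lemma exists_w : ∃ w : ℕ → R, w 0 = 1 ∧ ∀ t, 1 ≤ t → t ≤ p - 1 →
    IsUnit (w t) ∧ OortTate.ygen R p u' χ 1 ^ t = w t • OortTate.ygen R p u' χ t := by
  have h : ∀ t, 1 ≤ t ∧ t ≤ p - 1 → ∃ c : R,
      IsUnit c ∧ OortTate.ygen R p u' χ 1 ^ t = c • OortTate.ygen R p u' χ t := by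
    rintro t ⟨ht, ht'⟩
    have e := span_pow_eq (rank_mu (p := p) (R := R)) hχ hu hχp (eigenAug_mu hχ hu 1).symm ht ht'
    rw [eigenAug_mu hχ hu t] at e
    obtain ⟨c, hc⟩ := Submodule.mem_span_singleton.1
      (e.symm ▸ Submodule.mem_span_singleton_self (OortTate.ygen R p u' χ 1 ^ t))
    obtain ⟨d, hd⟩ := Submodule.mem_span_singleton.1
      (e ▸ Submodule.mem_span_singleton_self (OortTate.ygen R p u' χ t))
    refine ⟨c, IsUnit.of_mul_eq_one d ?_, hc.symm⟩
    have : (c * d - 1) • OortTate.ygen R p u' χ 1 ^ t = 0 := by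
      rw [sub_smul, mul_smul, hd, hc, one_smul, sub_self]
    exact sub_eq_zero.1
      (smul_pow_eq_zero (rank_mu (p := p) (R := R)) hχ hu hχp (eigenAug_mu hχ hu 1).symm ht ht' this)
  choose! c hc1 hc2 using h
  refine ⟨fun t => if t = 0 then 1 else c t, if_pos rfl, fun t ht ht' => ?_⟩
  simp only [if_neg (show t ≠ 0 by omega)]
  exact ⟨hc1 t ⟨ht, ht'⟩, hc2 t ⟨ht, ht'⟩⟩

include hχ hu hχp in
theorem ygen_basis_adjoin_pow :
    Algebra.adjoin R ({OortTate.ygen R p u' χ 1} : Set (MonoidAlgebra R (Multiplicative (ZMod p)))) = ⊤ ∧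
      ∃! w : R, OortTate.ygen R p u' χ 1 ^ p = w • OortTate.ygen R p u' χ 1 := by
  obtain ⟨-, hspan⟩ := powers_basis (rank_mu (p := p) (R := R)) hχ hu hχp (eigenAug_mu hχ hu 1).symm
  refine ⟨?_, ?_⟩
  · rw [eq_top_iff]
    intro f _
    rw [← Subalgebra.mem_toSubmodule]
    refine (Submodule.span_le.2 ?_) (hspan.ge Submodule.mem_top)
    rintro _ ⟨i, rfl⟩
    exact pow_mem (Algebra.subset_adjoin (Set.mem_singleton _)) _
  · have hm := pow_mem_eigenAug (t := p) (ygen_mem (u' := u') (χ := χ) 1) hpF.out.one_le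
    have h1p := hpF.out.one_lt
    have hmod : p % (p - 1) = 1 % (p - 1) := by
      rw [Nat.mod_eq_sub_mod (Nat.sub_le p 1)]
      congr 1
      omega
    rw [mul_one, eigenAug_mod, hmod, ← eigenAug_mod,
      eigenAug_mu hχ hu 1, Submodule.mem_span_singleton] at hm
    obtain ⟨w, hw⟩ := hm
    refine ⟨w, hw.symm, fun w' hw' => ?_⟩
    refine sub_eq_zero.1 (smul_ygen_eq_zero (χ := χ) hu 1 ?_)
    rw [sub_smul, ← hw', hw, sub_self]

end Mu

end Groth.Agent.OT
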