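import Mathlib.RingTheory.HopfAlgebra.Basic
import Mathlib.RingTheory.Bialgebra.Equiv
import Mathlib.RingTheory.TensorProduct.Basic
import Mathlib.Tactic.LinearCombination
import Mathlib.Tactic.Ring
import Mathlib.Tactic.Module

/-!
Normal forms of group schemes of order two.
-/

universe u v

open TensorProduct Coalgebra

namespace Groth.Agent.OT

variable {R : Type u} [CommRing R] {A : Type v} [CommRing A] [HopfAlgebra R A] {x : A}
  (hx : counit (R := R) x = 0)
  (hgen : ∀ f : A, counit (R := R) f = 0 → ∃ r : R, f = r • x)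
  (hfree : ∀ r : R, r • x = 0 → r = 0)

include hx hgen hfree

theorem exists_coord : ∃ π : A →ₗ[R] R, π 1 = 0 ∧ π x = 1 ∧ ∀ f, f = counit (R := R) f • (1 : A) + π f • x := by
  have h : ∀ f : A, ∃ r : R, f - counit (R := R) f • (1 : A) = r • x := fun f => hgen _ (by simp)
  choose r hr using h
  have huniq : ∀ {f : A} {s : R}, f - counit (R := R) f • (1 : A) = s • x → r f = s := fun {f s} hs => by
    refine sub_eq_zero.1 (hfree _ ?_)
    rw [sub_smul, ← hr, hs, sub_self]
  refine ⟨{ toFun := r, map_add' := fun f g => huniq ?_, map_smul' := fun c f => huniq ?_ },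
    huniq (by simp), huniq (by simp [hx]), fun f => ?_⟩
  · rw [map_add, add_smul, add_smul, ← hr, ← hr]; abel
  · rw [RingHom.id_apply, map_smul, smul_eq_mul, smul_eq_mul, mul_smul, mul_smul, ← smul_sub, hr]
  · show f = _ + r f • x
    rw [← hr, add_sub_cancel]

theorem exists_normal_form :
    ∃ a b : R, x * x = a • x ∧
      comul (R := R) x = x ⊗ₜ[R] 1 + 1 ⊗ₜ[R] x + b • (x ⊗ₜ[R] x) ∧ a * b = -2 := by
  obtain ⟨π, hπ1, hπx, hπ⟩ := exists_coord hx hgen hfree
  obtain ⟨a, ha⟩ := hgen (x * x) (by simp [hx])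
  let Φ : A ⊗[R] A →ₗ[R] R := LinearMap.mul' R R ∘ₗ TensorProduct.map π π
  let cl : A ⊗[R] A →ₗ[R] A := (TensorProduct.lid R A).toLinearMap ∘ₗ LinearMap.rTensor A (counit (R := R))
  let cr : A ⊗[R] A →ₗ[R] A := (TensorProduct.rid R A).toLinearMap ∘ₗ LinearMap.lTensor A (counit (R := R))
  have hdec : ∀ t : A ⊗[R] A, t = (1 : A) ⊗ₜ[R] cl t + cr t ⊗ₜ[R] (1 : A)
      - counit (R := R) (cl t) • ((1 : A) ⊗ₜ[R] (1 : A)) + Φ t • (x ⊗ₜ[R] x) := by
    intro t
    induction t using TensorProduct.induction_on with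
    | zero => simp
    | tmul f g =>
      simp only [cl, cr, Φ, LinearMap.comp_apply, LinearMap.rTensor_tmul, LinearMap.lTensor_tmul,
        LinearEquiv.coe_coe, TensorProduct.lid_tmul, TensorProduct.rid_tmul, TensorProduct.map_tmul,
        LinearMap.mul'_apply, map_smul, smul_eq_mul, TensorProduct.tmul_smul, ← TensorProduct.smul_tmul']
      conv_lhs => rw [hπ f, hπ g]
      conv_rhs =>
        enter [1, 1, 1, 2]
        rw [hπ g]
      conv_rhs =>
        enter [1, 1, 2, 2]
        rw [hπ f]
      simp only [TensorProduct.add_tmul, TensorProduct.tmul_add, TensorProduct.tmul_smul,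
        ← TensorProduct.smul_tmul', smul_add, smul_smul]
      module
    | add t t' ht ht' =>
      simp only [map_add, TensorProduct.tmul_add, TensorProduct.add_tmul, add_smul]
      conv_lhs => rw [ht, ht']
      abel
  have hcl : cl (comul x) = x := by simp [cl, Coalgebra.rTensor_counit_comul]
  have hcr : cr (comul x) = x := by simp [cr, Coalgebra.lTensor_counit_comul]
  set b := Φ (comul x) with hb
  have hc : comul (R := R) x = x ⊗ₜ[R] 1 + 1 ⊗ₜ[R] x + b • (x ⊗ₜ[R] x) := by
    conv_lhs => rw [hdec (comul x)]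
    rw [hcl, hcr, hx, zero_smul, sub_zero]
    abel
  refine ⟨a, b, ha, hc, ?_⟩
  -- the antipode
  obtain ⟨s, hs⟩ := hgen (HopfAlgebra.antipode R x) (by rw [HopfAlgebra.counit_antipode, hx])
  have h0 := HopfAlgebra.mul_antipode_rTensor_comul_apply (R := R) x
  rw [hc, hx, map_zero] at h0
  simp only [map_add, map_smul, LinearMap.rTensor_tmul, LinearMap.mul'_apply, mul_one,
    HopfAlgebra.antipode_one, one_mul, hs, smul_mul_assoc, ha, smul_smul] at h0
  have e0 : s + 1 + b * (s * a) = 0 := hfree _ (by rw [← h0, add_smul, add_smul, one_smul])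
  -- multiplicativity
  have h2 : comul (R := R) (x * x) = comul x * comul x := Bialgebra.comul_mul x x
  rw [ha, map_smul, hc] at h2
  have e2 := congrArg Φ h2
  simp only [add_mul, mul_add, smul_mul_assoc, mul_smul_comm, Algebra.TensorProduct.tmul_mul_tmul,
    mul_one, one_mul, ha, ← TensorProduct.smul_tmul', TensorProduct.tmul_smul, map_add, map_smul, Φ,
    LinearMap.comp_apply, TensorProduct.map_tmul, LinearMap.mul'_apply, hπ1, hπx, smul_eq_mul,
    mul_zero, zero_mul, add_zero, zero_add] at e2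
  have e3 : (a * b + 1) * (a * b + 2) = 0 := by linear_combination (-1) * e2
  linear_combination (-s) * e3 + (a * b + 2) * e0

omit hgen hfree

theorem normal_form_iso_iff {A' : Type v} [CommRing A'] [HopfAlgebra R A'] {x' : A'}
    (hgen : ∀ f : A, counit (R := R) f = 0 → ∃ r : R, f = r • x)
    (hfree : ∀ r : R, r • x = 0 → r = 0)
    (hx' : counit (R := R) x' = 0)
    (hgen' : ∀ f : A', counit (R := R) f = 0 → ∃ r : R, f = r • x')
    (hfree' : ∀ r : R, r • x' = 0 → r = 0)
    {a b a' b' : R} (hxa : x * x = a • x)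
    (hxb : comul (R := R) x = x ⊗ₜ[R] 1 + 1 ⊗ₜ[R] x + b • (x ⊗ₜ[R] x))
    (hxa' : x' * x' = a' • x')
    (hxb' : comul (R := R) x' = x' ⊗ₜ[R] 1 + 1 ⊗ₜ[R] x' + b' • (x' ⊗ₜ[R] x')) :
    Nonempty (A ≃ₐc[R] A') ↔ ∃ s : Rˣ, a = a' * (s : R) ∧ b' = b * (s : R) := by
  obtain ⟨π, hπ1, hπx, hπ⟩ := exists_coord hx hgen hfree
  obtain ⟨π', hπ1', hπx', hπ'⟩ := exists_coord hx' hgen' hfree'
  constructor
  · rintro ⟨F⟩
    obtain ⟨s, hs⟩ := hgen' (F x) (by rw [CoalgHomClass.counit_comp_apply]; exact hx)
    obtain ⟨t, ht⟩ := hgen (F.symm x') (by rw [CoalgHomClass.counit_comp_apply]; exact hx')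
    have hst : s * t = 1 := by
      have h := congrArg F.symm hs
      rw [BialgEquiv.symm_apply_apply, map_smul, ht, smul_smul] at h
      exact (sub_eq_zero.1 (hfree _ (by rw [sub_smul, one_smul, ← h, sub_self]) : s * t - 1 = 0))
    refine ⟨⟨s, t, hst, by rw [mul_comm]; exact hst⟩, ?_, ?_⟩
    · have h := congrArg F hxa
      rw [map_mul, map_smul, hs, smul_mul_smul_comm, hxa', smul_smul, smul_smul] at h
      have h' := congrArg π' h
      simp only [map_smul, hπx', smul_eq_mul, mul_one] at h'
      linear_combination (-t) * h' + (a' * s - a) * hst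
    · have h := CoalgHomClass.map_comp_comul_apply F x
      rw [hxb, map_add, map_add, map_smul, hs, map_smul, hxb'] at h
      simp only [TensorProduct.map_tmul] at h
      have h' := congrArg (LinearMap.mul' R R ∘ₗ TensorProduct.map π' π') h
      simp [hs, hπ1', hπx', map_one] at h'
      show b' = b * s
      linear_combination (-t) * h' + (b * s - b') * hst
  · rintro ⟨s, hsa, hsb⟩
    let f : A →ₗ[R] A' := (Algebra.linearMap R A').comp (counit (R := R)) +
      (LinearMap.toSpanSingleton R A' ((s : R) • x')).comp π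
    let g : A' →ₗ[R] A := (Algebra.linearMap R A).comp (counit (R := R)) +
      (LinearMap.toSpanSingleton R A (((s⁻¹ : Rˣ) : R) • x)).comp π'
    have hf1 : f 1 = 1 := by simp [f, hπ1]
    have hfx : f x = (s : R) • x' := by simp [f, hx, hπx]
    have hg1 : g 1 = 1 := by simp [g, hπ1']
    have hgx : g x' = ((s⁻¹ : Rˣ) : R) • x := by simp [g, hx', hπx']
    have hfd : ∀ u : A, f u = counit (R := R) u • (1 : A') + π u • ((s : R) • x') := fun u => by
      conv_lhs => rw [hπ u, map_add, map_smul, map_smul, hf1, hfx]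
    have hmul : ∀ u v, f (u * v) = f u * f v := by
      intro u v
      conv_lhs => rw [hπ u, hπ v]
      simp only [hfd u, hfd v, add_mul, mul_add, smul_mul_assoc, mul_smul_comm, one_mul, mul_one, smul_add,
        map_add, map_smul, hxa, hxa', hf1, hfx, smul_smul, hsa]
      module
    let F : A →ₐ[R] A' := AlgHom.ofLinearMap f hf1 hmul
    have hgf : ∀ u, g (f u) = u := fun u => by
      rw [hfd u, map_add, map_smul, map_smul, map_smul, hg1, hgx, smul_smul (s : R), Units.mul_inv,
        one_smul, ← hπ u]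
    have hfg : ∀ u, f (g u) = u := fun u => by
      conv_lhs => rw [hπ' u, map_add, map_smul, map_smul, hg1, hgx, map_add, map_smul, map_smul, map_smul,
        hf1, hfx, smul_smul (((s⁻¹ : Rˣ) : R)), Units.inv_mul, one_smul, ← hπ' u]
    let e : A ≃ₐ[R] A' := AlgEquiv.ofBijective F
      ⟨Function.LeftInverse.injective hgf, Function.RightInverse.surjective hfg⟩
    refine ⟨BialgEquiv.ofAlgEquiv e (AlgHom.ext fun u => ?_) (AlgHom.ext fun u => ?_)⟩
    · show counit (R := R) (f u) = counit u
      simp [hfd u, hx']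
    · show TensorProduct.map f f (comul u) = comul (f u)
      conv_lhs => rw [hπ u]
      simp only [hfd u, map_add, map_smul, Bialgebra.comul_one, hxb, hxb', Algebra.TensorProduct.one_def,
        TensorProduct.map_tmul, hf1, hfx, TensorProduct.tmul_smul, ← TensorProduct.smul_tmul', smul_smul,
        smul_add, hsb]
      module

end Groth.Agent.OT
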