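import Groth.Agent.Lib.OT.Mu
import Groth.Agent.Lib.OT.Dual
import Mathlib.RingTheory.Finiteness.Basic
import Mathlib.Algebra.Algebra.Subalgebra.Lattice

/-!
The pairing of `I₁` with its dual and the universal constants.
-/

universe u v

open TensorProduct Coalgebra WithConv SGA3b

namespace Groth.Agent.OT

set_option linter.unusedSectionVars false
set_option linter.style.haveILetI false

variable {R : Type u} [CommRing R] {A : Type u} [CommRing A] [HopfAlgebra R A] [IsCocomm R A]

section Sc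

variable {T : Type v} [Semiring T] [Algebra R T]

/-- `a ↦ G a • x`. -/
def sc (G : CartDual.D R A) (x : T) : WithConv (A →ₗ[R] T) := toConv (G.ofConv.smulRight x)

@[simp] lemma sc_apply (G : CartDual.D R A) (x : T) (a : A) : (sc G x).ofConv a = G.ofConv a • x := rfl

lemma sc_mul_sc (G G' : CartDual.D R A) (x x' : T) : sc G x * sc G' x' = sc (G * G') (x * x') := by
  ext a
  show (sc G x * sc G' x') a = _
  rw [(ℛ R a).convMul_apply, sc_apply,
    show (G * G').ofConv a = ∑ i ∈ (ℛ R a).index, G.ofConv ((ℛ R a).left i) * G'.ofConv ((ℛ R a).right i)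
      from (ℛ R a).convMul_apply G G', Finset.sum_smul]
  exact Finset.sum_congr rfl fun i _ => by simp [smul_smul, mul_comm]

lemma sc_one : sc (1 : CartDual.D R A) (1 : T) = 1 := by
  ext a; simp [Algebra.algebraMap_eq_smul_one]

lemma sc_pow (G : CartDual.D R A) (x : T) : ∀ t : ℕ, sc G x ^ t = sc (G ^ t) (x ^ t)
  | 0 => by rw [pow_zero, pow_zero, pow_zero, sc_one]
  | t + 1 => by rw [pow_succ, sc_pow G x t, sc_mul_sc, ← pow_succ, ← pow_succ]

lemma sc_mul_apply (G : CartDual.D R A) (x : T) (F : WithConv (A →ₗ[R] T)) (a : A) :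
    (sc G x * F).ofConv a = x * (sc G (1 : T) * F).ofConv a := by
  show (sc G x * F) a = x * (sc G (1 : T) * F) a
  rw [(ℛ R a).convMul_apply, (ℛ R a).convMul_apply, Finset.mul_sum]
  exact Finset.sum_congr rfl fun i _ => by simp

lemma convMul_apply_one (F F' : WithConv (A →ₗ[R] T)) :
    (F * F').ofConv 1 = F.ofConv 1 * F'.ofConv 1 := by
  show (F * F') 1 = _
  simp [LinearMap.convMul_apply, Bialgebra.comul_one, Algebra.TensorProduct.one_def]

end Sc

variable {p : ℕ} [hpF : Fact p.Prime] {χ : (ZMod p)ˣ →* Rˣ} {u' : R}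

section Psi

variable [Module.Finite R A] [Module.Projective R A] (hp : (toConv (AlgHom.id R A)) ^ p = 1)

include hp in
lemma convId_pow_prime : (toConv (LinearMap.id : A →ₗ[R] A)) ^ p = 1 := by
  have h := AlgHom.toLinearMap_convPow (toConv (AlgHom.id R A)) p
  rw [hp, AlgHom.toLinearMap_convOne] at h
  exact h.symm

lemma convId_pow (k : ℕ) :
    (toConv (LinearMap.id : A →ₗ[R] A)) ^ k = toConv (powConv R A k).toLinearMap :=
  (AlgHom.toLinearMap_convPow (toConv (AlgHom.id R A)) k).symm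

/-- `T ↦ id`. -/
noncomputable def psiHom : Multiplicative (ZMod p) →* WithConv (A →ₗ[R] A) where
  toFun z := (toConv (LinearMap.id : A →ₗ[R] A)) ^ (Multiplicative.toAdd z).val
  map_one' := by simp
  map_mul' a b := by
    rw [← pow_add, toAdd_mul, ZMod.val_add, ← pow_eq_pow_mod _ (convId_pow_prime hp)]

/-- The algebra map from the group algebra to the convolution algebra of endomorphisms. -/
noncomputable def psi : MonoidAlgebra R (Multiplicative (ZMod p)) →ₐ[R] WithConv (A →ₗ[R] A) :=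
  MonoidAlgebra.lift R (WithConv (A →ₗ[R] A)) (Multiplicative (ZMod p)) (psiHom hp)

lemma psi_muT_pow (k : ℕ) :
    psi hp (OortTate.muT R p ^ k) = toConv (powConv R A k).toLinearMap := by
  rw [muT_pow, psi, MonoidAlgebra.lift_of]
  simp only [psiHom, MonoidHom.coe_mk, OneHom.coe_mk, toAdd_ofAdd]
  rw [ZMod.val_natCast, ← pow_eq_pow_mod _ (convId_pow_prime hp), convId_pow]

lemma psi_ygen (i : ℕ) :
    psi hp (OortTate.ygen R p u' χ i) = toConv (pr (p := p) u' χ i) := by
  apply WithConv.ofConv_injective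
  refine LinearMap.ext fun a => ?_
  rw [OortTate.ygen, OortTate.proj, LinearMap.smul_apply, LinearMap.sum_apply]
  simp only [LinearMap.smul_apply, AlgHom.toLinearMap_apply, powConv_muT_sub_one]
  simp only [map_smul, map_sum, map_sub, map_one, psi_muT_pow]
  rw [pr_apply, OortTate.proj]
  simp [LinearMap.sum_apply, map_sub, smul_sub, Finset.sum_sub_distrib]

include hp in
lemma pr_convPow {w : ℕ → R}
    (hw : ∀ t, 1 ≤ t → t ≤ p - 1 → IsUnit (w t) ∧
      OortTate.ygen R p u' χ 1 ^ t = w t • OortTate.ygen R p u' χ t)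
    {t : ℕ} (ht : 1 ≤ t) (ht' : t ≤ p - 1) :
    (toConv (pr (p := p) u' χ 1) : WithConv (A →ₗ[R] A)) ^ t = w t • toConv (pr (p := p) u' χ t) := by
  rw [← psi_ygen hp, ← psi_ygen hp, ← map_pow, (hw t ht ht').2, map_smul]

end Psi

variable [Module.Finite R A] [Module.Projective R A]
  (hrk : ∀ q : PrimeSpectrum R, Module.rankAtStalk A q = p)
  (hχ : ∀ m : (ZMod p)ˣ, m ≠ 1 → IsUnit ((χ m : R) - 1)) (hu : u' * ((p - 1 : ℕ) : R) = 1)
  (hχp : ∀ m : (ZMod p)ˣ, ((χ m : Rˣ) : R) - (((m : ZMod p).val : ℕ) : R) ∈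
    Ideal.span ({(p : R)} : Set R))
  {w : ℕ → R}
  (hw : ∀ t, 1 ≤ t → t ≤ p - 1 → IsUnit (w t) ∧
      OortTate.ygen R p u' χ 1 ^ t = w t • OortTate.ygen R p u' χ t)

include hrk hχ hu hχp

/-- The local description of `I₁` and of its dual. -/
lemma local_frame (m : Ideal R) [m.IsMaximal] :
    ∃ (y : Localization.AtPrime m ⊗[R] A)
      (ξ : WithConv (Localization.AtPrime m ⊗[R] A →ₗ[Localization.AtPrime m] Localization.AtPrime m)),
      (∀ t, 1 ≤ t → t ≤ p - 1 → ∀ r : Localization.AtPrime m, r • y ^ t = 0 → r = 0) ∧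
      ξ.ofConv y = 1 ∧
      (∀ a ∈ OortTate.eigenAug R A p χ 1, ∃ c : Localization.AtPrime m, (1 : Localization.AtPrime m) ⊗ₜ[R] a = c • y) ∧
      (∀ G ∈ OortTate.eigenAug R (CartDual.D R A) p χ 1, ∃ c : Localization.AtPrime m,
        ∀ b : A, algebraMap R (Localization.AtPrime m) (G.ofConv b) =
          c * ξ.ofConv ((1 : Localization.AtPrime m) ⊗ₜ[R] b)) ∧
      (∀ {w : ℕ → R}, (∀ t, 1 ≤ t → t ≤ p - 1 → IsUnit (w t) ∧
          OortTate.ygen R p u' χ 1 ^ t = w t • OortTate.ygen R p u' χ t) →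
        ∀ t, 1 ≤ t → t ≤ p - 1 → (ξ ^ t).ofConv (y ^ t) = algebraMap R (Localization.AtPrime m) (w t)) := by
  let S := Localization.AtPrime m
  have hp := killed_of_rank hrk
  obtain ⟨y, hy, B, hB⟩ := exists_gen_localization hrk hχ hu hχp ⟨m, inferInstance⟩
  have h1p := hpF.out.one_lt
  have hχS := chiMap_isUnit (S := S) hχ
  have huS := map_u (S := S) hu
  have hsp := fun t (ht : 1 ≤ t) (ht' : t ≤ p - 1) =>
    eigenAug_eq_span_of_basis hχS huS hy B hB ht ht'
  let ξ : WithConv (S ⊗[R] A →ₗ[S] S) := toConv (B.coord ⟨1, h1p⟩)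
  have hξ : ∀ i : Fin p, ξ.ofConv (y ^ (i : ℕ)) = if (i : ℕ) = 1 then 1 else 0 := by
    intro i
    rw [← hB i]
    show B.coord _ (B i) = _
    rw [Module.Basis.coord_apply, Module.Basis.repr_self, Finsupp.single_apply]
    simp [Fin.ext_iff]
  have hξy : ξ.ofConv y = 1 := by simpa using hξ ⟨1, h1p⟩
  refine ⟨y, ξ, fun t ht ht' => (hsp t ht ht').2, hξy, fun a ha => ?_, fun G hG => ?_, ?_⟩
  · have := one_tmul_mem S 1 ha
    rw [(hsp 1 le_rfl (by omega)).1, pow_one, Submodule.mem_span_singleton] at this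
    obtain ⟨c, hc⟩ := this
    exact ⟨c, hc.symm⟩
  · let γ : S ⊗[R] A →ₗ[S] S := ((Algebra.linearMap R S) ∘ₗ G.ofConv).liftBaseChange S
    have hγb : ∀ b, γ (1 ⊗ₜ b) = algebraMap R S (G.ofConv b) := fun b => by simp [γ]
    obtain ⟨hG1, -⟩ := mem_eigenAug_dual.1 hG
    refine ⟨γ y, fun b => ?_⟩
    rw [← hγb]
    suffices γ = γ y • ξ.ofConv by
      conv_lhs => rw [this]
      rfl
    refine B.ext fun i => ?_
    rw [LinearMap.smul_apply, hB, hξ]
    by_cases hi : (i : ℕ) = 1
    · simp [hi]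
    rw [if_neg hi, smul_zero]
    rcases Nat.eq_zero_or_pos (i : ℕ) with hi0 | hi0
    · rw [hi0, pow_zero, Algebra.TensorProduct.one_def, hγb, hG1, map_zero]
    · have hle : Submodule.span S ((fun a : A => (1 : S) ⊗ₜ[R] a) '' (OortTate.eigenAug R A p χ (i : ℕ))) ≤
          LinearMap.ker γ := by
        rw [Submodule.span_le]
        rintro _ ⟨a, ha, rfl⟩
        rw [SetLike.mem_coe, LinearMap.mem_ker, hγb, apply_eq_zero (u' := u') hχ hu hG ha, map_zero]
        intro h
        exact hi (mod_pred_inj hi0 (by have := i.2; omega) le_rfl (by omega) h).symm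
      refine hle (eigenAug_baseChange_le S hp hχ hu (i : ℕ) ?_)
      rw [(hsp (i : ℕ) hi0 (by have := i.2; omega)).1]
      exact Submodule.mem_span_singleton_self _
  · intro w hw t ht ht'
    let pr' : ℕ → WithConv (S ⊗[R] A →ₗ[S] S ⊗[R] A) := fun j =>
      toConv (pr (p := p) (algebraMap R S u') (chiMap S χ) j)
    have hres : ∀ j, resHom (pr' j) = postHom (Algebra.TensorProduct.includeRight : A →ₐ[R] S ⊗[R] A)
        (toConv (pr (p := p) u' χ j)) := by
      intro j
      ext b
      simp only [resHom_apply, postHom_apply, pr', pr_apply, Algebra.TensorProduct.includeRight_apply]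
      rw [← proj_one_tmul S j (b - algebraMap R A (counit b)), TensorProduct.tmul_sub, counit_one_tmul S b,
        ← IsScalarTower.algebraMap_apply,
        ← (Algebra.TensorProduct.includeRight : A →ₐ[R] S ⊗[R] A).commutes]
      rfl
    have hconv : pr' 1 ^ t = algebraMap R S (w t) • pr' t := by
      refine res_injective (R := R) ?_
      rw [map_pow, hres, ← map_pow, pr_convPow hp hw ht ht']
      ext b
      simp
      congr 1
      exact (congrArg (fun q : WithConv (A →ₗ[R] S ⊗[R] A) => q.ofConv b) (hres t)).symm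
    have hξpr : pr' 1 = sc ξ y := by
      apply WithConv.ofConv_injective
      refine B.ext fun i => ?_
      rw [sc_apply, hB, hξ]
      show pr (p := p) (algebraMap R S u') (chiMap S χ) 1 (y ^ (i : ℕ)) = _
      rcases Nat.eq_zero_or_pos (i : ℕ) with hi0 | hi0
      · rw [hi0, pow_zero, pr_one, if_neg (by omega), zero_smul]
      · rw [pr_of_mem hχS huS (pow_mem_eigenAug hy hi0), mul_one]
        by_cases hi : (i : ℕ) = 1
        · simp [hi]
        · rw [if_neg, if_neg hi, zero_smul, zero_smul]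
          exact fun h => hi (mod_pred_inj hi0 (by have := i.2; omega) le_rfl (by omega) h).symm
    rw [hξpr, sc_pow] at hconv
    have := congrArg (fun F : WithConv (S ⊗[R] A →ₗ[S] S ⊗[R] A) => F.ofConv (y ^ t)) hconv
    simp only [sc_apply, WithConv.ofConv_smul, LinearMap.smul_apply, pr'] at this
    rw [pr_of_mem hχS huS (pow_mem_eigenAug hy ht), mul_one, if_pos rfl, one_smul] at this
    refine sub_eq_zero.1 ((hsp t ht ht').2 _ ?_)
    refine (sub_smul ((ξ ^ t).ofConv (y ^ t)) (algebraMap R S (w t)) (y ^ t)).trans ?_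
    exact sub_eq_zero.2 this

include hw in
/-- The scalar pairing identity. -/
lemma pairing_prod (L : List (CartDual.D R A × A))
    (hL : ∀ x ∈ L, x.1 ∈ OortTate.eigenAug R (CartDual.D R A) p χ 1 ∧ x.2 ∈ OortTate.eigenAug R A p χ 1)
    (h1 : 1 ≤ L.length) (h2 : L.length ≤ p - 1) :
    ((L.map Prod.fst).prod).ofConv (L.map Prod.snd).prod =
      w L.length * (L.map fun x => x.1.ofConv x.2).prod := by
  refine Module.eq_of_localization_maximal (fun m [m.IsMaximal] => Localization.AtPrime m)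
    (fun m [m.IsMaximal] => Algebra.linearMap R (Localization.AtPrime m)) _ _ fun m hm => ?_
  let S := Localization.AtPrime m
  obtain ⟨y, ξ, -, hξy, hA, hD, hwS⟩ := local_frame hrk hχ hu hχp m
  have key : ∀ L : List (CartDual.D R A × A),
      (∀ x ∈ L, x.1 ∈ OortTate.eigenAug R (CartDual.D R A) p χ 1 ∧ x.2 ∈ OortTate.eigenAug R A p χ 1) →
      ∃ c d : S, postHom (Algebra.ofId R S) (L.map Prod.fst).prod = resHom (c • ξ ^ L.length) ∧
        (1 : S) ⊗ₜ[R] (L.map Prod.snd).prod = d • y ^ L.length ∧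
        algebraMap R S (L.map fun x => x.1.ofConv x.2).prod = c * d := by
    intro L
    induction L with
    | nil =>
      intro _
      refine ⟨1, 1, by simp, by simp [Algebra.TensorProduct.one_def], by simp⟩
    | cons x L ih =>
      intro hL
      obtain ⟨c, d, h1, h2, h3⟩ := ih fun z hz => hL z (List.mem_cons_of_mem x hz)
      obtain ⟨hG, ha⟩ := hL x List.mem_cons_self
      obtain ⟨α, hα⟩ := hA _ ha
      obtain ⟨γ, hγ⟩ := hD _ hG
      refine ⟨γ * c, α * d, ?_, ?_, ?_⟩
      · rw [List.map_cons, List.prod_cons, map_mul, h1,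
          show postHom (Algebra.ofId R S) x.1 = resHom (γ • ξ) from ?_, ← map_mul, smul_mul_smul_comm,
          List.length_cons, pow_succ']
        apply WithConv.ofConv_injective
        refine LinearMap.ext fun b => ?_
        exact hγ b
      · rw [List.map_cons, List.prod_cons, List.length_cons, pow_succ',
          show (1 : S) ⊗ₜ[R] (x.2 * (L.map Prod.snd).prod) =
            ((1 : S) ⊗ₜ[R] x.2) * ((1 : S) ⊗ₜ[R] (L.map Prod.snd).prod) by simp,
          hα, h2, smul_mul_smul_comm]
      · rw [List.map_cons, List.prod_cons, map_mul, h3, hγ, hα, map_smul, hξy, smul_eq_mul, mul_one]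
        ring
  obtain ⟨c, d, e1, e2, e3⟩ := key L hL
  have := congrArg (fun q : WithConv (A →ₗ[R] S) => q.ofConv (L.map Prod.snd).prod) e1
  simp only [postHom_apply, resHom_apply, WithConv.ofConv_smul, LinearMap.smul_apply, e2, map_smul,
    hwS hw _ h1 h2, smul_eq_mul] at this
  rw [Algebra.linearMap_apply, Algebra.linearMap_apply, map_mul, e3]
  exact this.trans (by ring)

/-- Faithfulness of `I₁`. -/
lemma smul_eigen_eq_zero {r : R} (hr : ∀ a ∈ OortTate.eigenAug R A p χ 1, r • a = 0) : r = 0 := by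
  refine Module.eq_of_localization_maximal (fun m [m.IsMaximal] => Localization.AtPrime m)
    (fun m [m.IsMaximal] => Algebra.linearMap R (Localization.AtPrime m)) _ _ fun m hm => ?_
  let S := Localization.AtPrime m
  obtain ⟨y, hy, B, hB⟩ := exists_gen_localization hrk hχ hu hχp ⟨m, inferInstance⟩
  have h1p := hpF.out.one_lt
  obtain ⟨-, hfree⟩ := eigenAug_eq_span_of_basis (chiMap_isUnit S hχ) (map_u S hu) hy B hB
    (le_refl 1) (by omega)
  rw [map_zero, Algebra.linearMap_apply]
  refine hfree _ ?_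
  rw [pow_one]
  have hmem := eigenAug_baseChange_le S (killed_of_rank hrk) hχ hu 1 hy
  have hle : Submodule.span S ((fun a : A => (1 : S) ⊗ₜ[R] a) '' (OortTate.eigenAug R A p χ 1)) ≤
      LinearMap.ker (LinearMap.lsmul S (S ⊗[R] A) (algebraMap R S r)) := by
    rw [Submodule.span_le]
    rintro _ ⟨a, ha, rfl⟩
    rw [SetLike.mem_coe, LinearMap.mem_ker, LinearMap.lsmul_apply, algebraMap_smul,
      ← TensorProduct.tmul_smul, hr a ha, TensorProduct.tmul_zero]
  exact hle hmem

/-- In a rank one module, `g b • a = g a • b`. -/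
lemma swap_eigen {G : CartDual.D R A} (hG : G ∈ OortTate.eigenAug R (CartDual.D R A) p χ 1)
    {a b : A} (ha : a ∈ OortTate.eigenAug R A p χ 1) (hb : b ∈ OortTate.eigenAug R A p χ 1) :
    G.ofConv b • a = G.ofConv a • b := by
  refine Module.eq_of_localization_maximal
    (fun m [m.IsMaximal] => Localization.AtPrime m ⊗[R] A)
    (fun m [m.IsMaximal] => TensorProduct.mk R (Localization.AtPrime m) A 1) _ _ fun m hm => ?_
  let S := Localization.AtPrime m
  obtain ⟨y, ξ, -, hξy, hA, hD, -⟩ := local_frame hrk hχ hu hχp m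
  obtain ⟨α, hα⟩ := hA a ha
  obtain ⟨β, hβ⟩ := hA b hb
  obtain ⟨γ, hγ⟩ := hD G hG
  simp only [TensorProduct.mk_apply, TensorProduct.tmul_smul]
  rw [← algebraMap_smul S, ← algebraMap_smul S (G.ofConv a), hγ, hγ, hα, hβ, map_smul, map_smul, hξy,
    smul_smul, smul_smul]
  congr 1
  simp only [smul_eq_mul]
  ring


end Groth.Agent.OT
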