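import Groth.Agent.Lib.OT.Eigen
import Groth.Agent.Lib.OT.Deligne
import Groth.Agent.Lib.OT.Comm
import Mathlib.RingTheory.Spectrum.Prime.FreeLocus
import Mathlib.RingTheory.LocalProperties.Basic
import Mathlib.LinearAlgebra.Determinant
import Mathlib.LinearAlgebra.TensorProduct.Basis
import Mathlib.FieldTheory.IsAlgClosed.AlgebraicClosure

/-!
The eigenspaces of the augmentation ideal of a group scheme of prime order are invertible.
-/

universe u

open TensorProduct Coalgebra WithConv SGA3b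

namespace Groth.Agent.OT

set_option linter.unusedSectionVars false
set_option linter.style.haveILetI false

variable {p : ℕ} [hpF : Fact p.Prime]

lemma killed_of_rank {R A : Type*} [CommRing R] [CommRing A] [HopfAlgebra R A] [Module.Finite R A]
    [Module.Projective R A] (hrk : ∀ q : PrimeSpectrum R, Module.rankAtStalk A q = p) :
    (toConv (AlgHom.id R A)) ^ p = 1 :=
  haveI := isCocomm_of_rankAtStalk_eq_prime hrk
  convPow_eq_one_of_rankAtStalk_eq p hrk

lemma killed_of_basis {R A : Type*} [CommRing R] [CommRing A] [HopfAlgebra R A]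
    (b : Module.Basis (Fin p) R A) : (toConv (AlgHom.id R A)) ^ p = 1 := by
  haveI := Module.Finite.of_basis b
  haveI := Module.Free.of_basis b
  refine killed_of_rank fun q => ?_
  haveI : Nontrivial R := q.nontrivial
  rw [Module.rankAtStalk_eq_finrank_of_free, Pi.natCast_def]
  simp [Module.finrank_eq_card_basis b]

lemma mod_pred_inj {q i t : ℕ} (hi : 1 ≤ i) (hi' : i ≤ q) (ht : 1 ≤ t) (ht' : t ≤ q)
    (h : t % q = i % q) : t = i := by
  rcases eq_or_lt_of_le hi' with rfl | hi'' <;> rcases eq_or_lt_of_le ht' with h2 | ht''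
  · exact h2
  · rw [Nat.mod_self, Nat.mod_eq_of_lt ht''] at h; omega
  · rw [h2, Nat.mod_self, Nat.mod_eq_of_lt hi''] at h; omega
  · rwa [Nat.mod_eq_of_lt ht'', Nat.mod_eq_of_lt hi''] at h

section Generic

variable {R : Type u} [CommRing R] {A : Type u} [CommRing A] [HopfAlgebra R A]
  (hp : (toConv (AlgHom.id R A)) ^ p = 1) {χ : (ZMod p)ˣ →* Rˣ} {u' : R}
  (hχ : ∀ m : (ZMod p)ˣ, m ≠ 1 → IsUnit ((χ m : R) - 1))
  (hu : u' * ((p - 1 : ℕ) : R) = 1) {y : A} (hy : y ∈ OortTate.eigenAug R A p χ 1)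

include hχ hu hy in
lemma proj_sum_pow (c : Fin p → R) (h0 : ∀ i : Fin p, (i : ℕ) = 0 → c i = 0) (t : Fin p)
    (ht : 1 ≤ (t : ℕ)) :
    OortTate.proj R A p u' χ (t : ℕ) (∑ i : Fin p, c i • y ^ (i : ℕ)) = c t • y ^ (t : ℕ) := by
  rw [map_sum, Finset.sum_eq_single t]
  · rw [map_smul, proj_of_mem hχ hu (pow_mem_eigenAug hy ht), mul_one, if_pos rfl, one_smul]
  · intro i _ hi
    rcases Nat.eq_zero_or_pos (i : ℕ) with hi0 | hi0
    · rw [h0 i hi0, zero_smul, map_zero]
    · rw [map_smul, proj_of_mem hχ hu (pow_mem_eigenAug hy hi0), if_neg, zero_smul, smul_zero]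
      intro h
      rw [mul_one] at h
      exact hi (Fin.ext (mod_pred_inj hi0 (by have := i.2; omega) ht (by have := t.2; omega) h).symm)
  · intro h; exact absurd (Finset.mem_univ t) h

include hy in
lemma counit_sum_pow (c : Fin p → R) :
    counit (R := R) (∑ i : Fin p, c i • y ^ (i : ℕ)) = c ⟨0, hpF.out.pos⟩ := by
  rw [map_sum, Finset.sum_eq_single ⟨0, hpF.out.pos⟩]
  · simp
  · intro i _ hi
    have hi0 : 1 ≤ (i : ℕ) := Nat.one_le_iff_ne_zero.2 fun h => hi (Fin.ext h)
    rw [map_smul, ((mem_eigenAug χ).1 (pow_mem_eigenAug hy hi0)).1, smul_zero]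
  · intro h; exact absurd (Finset.mem_univ _) h

include hχ hu hy in
lemma indep_pow_of_field (hR : IsField R) (hne : y ^ (p - 1) ≠ 0) :
    LinearIndependent R (fun i : Fin p => y ^ (i : ℕ)) := by
  rw [Fintype.linearIndependent_iff]
  intro c hc t
  have h0 : c ⟨0, hpF.out.pos⟩ = 0 := by
    rw [← counit_sum_pow hy c, hc, map_zero]
  rcases Nat.eq_zero_or_pos (t : ℕ) with ht | ht
  · exact (show t = ⟨0, hpF.out.pos⟩ from Fin.ext ht) ▸ h0
  · have := proj_sum_pow hχ hu hy c
      (fun i hi => (show i = ⟨0, hpF.out.pos⟩ from Fin.ext hi) ▸ h0) t ht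
    rw [hc, map_zero] at this
    by_contra hct
    obtain ⟨d, hd⟩ := hR.mul_inv_cancel hct
    apply hne
    have hyt : y ^ (t : ℕ) = 0 := by
      calc y ^ (t : ℕ) = (d * c t) • y ^ (t : ℕ) := by rw [mul_comm, hd, one_smul]
        _ = 0 := by rw [mul_smul, ← this, smul_zero]
    rw [← Nat.sub_add_cancel (show (t : ℕ) ≤ p - 1 by have := t.2; omega), pow_add, hyt, mul_zero]

include hχ hu hy in
lemma eigenAug_eq_span_of_basis (B : Module.Basis (Fin p) R A) (hB : ∀ i, B i = y ^ (i : ℕ))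
    {t : ℕ} (ht : 1 ≤ t) (ht' : t ≤ p - 1) :
    OortTate.eigenAug R A p χ t = Submodule.span R {y ^ t} ∧ ∀ r : R, r • y ^ t = 0 → r = 0 := by
  have htp : t < p := by have := hpF.out.one_lt; omega
  refine ⟨le_antisymm (fun f hf => ?_) ?_, fun r hr => ?_⟩
  · have hsum : f = ∑ i : Fin p, B.repr f i • y ^ (i : ℕ) := by
      conv_lhs => rw [← B.sum_repr f]
      simp only [hB]
    have h0 : B.repr f ⟨0, hpF.out.pos⟩ = 0 := by
      rw [← counit_sum_pow hy (fun i => B.repr f i), ← hsum]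
      exact ((mem_eigenAug χ).1 hf).1
    have hpr := proj_of_mem (i := t) hχ hu hf
    rw [if_pos rfl, one_smul] at hpr
    rw [← hpr, hsum, proj_sum_pow hχ hu hy (fun i => B.repr f i)
      (fun i hi => (show i = ⟨0, hpF.out.pos⟩ from Fin.ext hi) ▸ h0) ⟨t, htp⟩ ht]
    exact Submodule.smul_mem _ _ (Submodule.mem_span_singleton_self _)
  · rw [Submodule.span_le, Set.singleton_subset_iff]
    simpa using pow_mem_eigenAug hy ht
  · have hB' : B ⟨t, htp⟩ = y ^ t := hB _
    rw [← hB'] at hr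
    have := congrArg (fun q => B.repr q ⟨t, htp⟩) hr
    simpa using this

end Generic

section FieldCase

variable {K : Type u} [Field K] [IsAlgClosed K] {B : Type u} [CommRing B] [HopfAlgebra K B]
  [Module.Finite K B]

lemma epsDer_powConv {δ : B →ₗ[K] K} (hδ : IsEpsDer δ) (n : ℕ) (a : B) :
    δ (powConv K B n a) = (n : K) * δ a := by
  induction n generalizing a with
  | zero =>
    have : δ 1 = 0 := by simpa using hδ 1 1
    simp [powConv, Algebra.algebraMap_eq_smul_one, this]
  | succ n ih =>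
    have h : powConv K B (n + 1) a =
        (toConv (powConv K B n).toLinearMap * toConv (LinearMap.id : B →ₗ[K] B)) a := by
      unfold powConv
      rw [pow_succ]
      rfl
    rw [h, (ℛ K a).convMul_apply, map_sum]
    have h1 : ∑ i ∈ (ℛ K a).index, counit ((ℛ K a).left i) * δ ((ℛ K a).right i) = δ a := by
      have := congrArg (fun q : WithConv (B →ₗ[K] K) => q a) (one_mul (toConv δ))
      rw [(ℛ K a).convMul_apply] at this
      simpa using this
    have h2 : ∑ i ∈ (ℛ K a).index, δ ((ℛ K a).left i) * counit ((ℛ K a).right i) = δ a := by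
      have := congrArg (fun q : WithConv (B →ₗ[K] K) => q a) (mul_one (toConv δ))
      rw [(ℛ K a).convMul_apply] at this
      simpa using this
    calc ∑ i ∈ (ℛ K a).index, δ (powConv K B n ((ℛ K a).left i) * (ℛ K a).right i)
        = ∑ i ∈ (ℛ K a).index, (counit ((ℛ K a).left i) * δ ((ℛ K a).right i) +
            (n : K) * (δ ((ℛ K a).left i) * counit ((ℛ K a).right i))) :=
          Finset.sum_congr rfl fun i _ => by rw [hδ, counit_powConv, ih]; ring
      _ = ((n + 1 : ℕ) : K) * δ a := by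
          rw [Finset.sum_add_distrib, ← Finset.mul_sum, h1, h2]; push_cast; ring

theorem exists_eigen_gen_field (hB : Module.finrank K B = p) {χ : (ZMod p)ˣ →* Kˣ} {u' : K}
    (hχ : ∀ m : (ZMod p)ˣ, m ≠ 1 → IsUnit ((χ m : K) - 1))
    (hu : u' * ((p - 1 : ℕ) : K) = 1)
    (hχp : CharP K p → ∀ m : (ZMod p)ˣ, ((χ m : Kˣ) : K) = (((m : ZMod p).val : ℕ) : K)) :
    ∃ y ∈ OortTate.eigenAug K B p χ 1, y ^ (p - 1) ≠ 0 := by
  have h1p := hpF.out.one_lt
  have hp : (toConv (AlgHom.id K B)) ^ p = 1 := killed_of_basis (Module.finBasisOfFinrankEq K B hB)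
  rcases dichotomy (p := p) hB with ⟨g, -, hg, hbij⟩ | ⟨hchar, δ, hδ, x, hx, hx1⟩
  · classical
    let w : ZMod p → K := fun z => if h : z = 0 then 0 else ((χ (Units.mk0 z h) : Kˣ) : K)
    have hw : ∀ (m : (ZMod p)ˣ) (z : ZMod p), w (m * z) = ((χ m : Kˣ) : K) * w z := by
      intro m z
      by_cases hz : z = 0
      · simp [w, hz]
      · have hmz : (m : ZMod p) * z ≠ 0 := mul_ne_zero m.ne_zero hz
        simp only [w, dif_neg hz, dif_neg hmz]
        rw [show Units.mk0 _ hmz = m * Units.mk0 z hz from Units.ext rfl, map_mul, Units.val_mul]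
    obtain ⟨y, hy⟩ := hbij.2 (fun i : Fin p => w ((i : ℕ) : ZMod p))
    have hyv : ∀ k : ℕ, (g ^ k).ofConv y = w (k : ZMod p) := by
      intro k
      rw [pow_eq_pow_mod k hg, ← ZMod.natCast_mod k p]
      exact congrFun hy ⟨k % p, Nat.mod_lt _ hpF.out.pos⟩
    refine ⟨y, (mem_eigenAug χ).2 ⟨?_, fun m => ?_⟩, fun h => ?_⟩
    · have := hyv 0
      rw [pow_zero, Nat.cast_zero] at this
      simpa [w] using this
    · refine hbij.1 (funext fun i => ?_)
      show (g ^ (i : ℕ)).ofConv _ = (g ^ (i : ℕ)).ofConv _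
      rw [map_smul, ← AlgHom.comp_apply, comp_powConv, toConv_ofConv, ← pow_mul, hyv, hyv,
        pow_one, smul_eq_mul, Nat.cast_mul, ZMod.natCast_zmod_val, mul_comm, hw]
    · have h1 := congrArg (g ^ 1).ofConv h
      rw [map_pow, hyv, map_zero, Nat.cast_one, pow_eq_zero_iff (by omega)] at h1
      simp [w] at h1
  · have hy := proj_mem hp χ u' 1 hx
    refine ⟨_, hy, fun h => ?_⟩
    have hyε := ((mem_eigenAug χ).1 hy).1
    have hy1 : δ (OortTate.proj K B p u' χ 1 x) = 1 := by
      rw [OortTate.proj]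
      simp only [LinearMap.smul_apply, LinearMap.sum_apply, map_smul, map_sum, pow_one,
        AlgHom.toLinearMap_apply, epsDer_powConv hδ, hx1, mul_one, smul_eq_mul, ← hχp hchar]
      simpa using coeff_orth hχ hu 1 1
    have := (convPow_apply_pow hδ hyε hy1 (p - 1) (p - 1)).2 rfl
    rw [h, map_zero, eq_comm, CharP.cast_eq_zero_iff K p, Nat.Prime.dvd_factorial hpF.out] at this
    omega

end FieldCase

section BaseChange

variable {R : Type u} [CommRing R] {A : Type u} [CommRing A] [HopfAlgebra R A]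
  (S : Type u) [CommRing S] [Algebra R S] {χ : (ZMod p)ˣ →* Rˣ} {u' : R}

/-- The character after base change. -/
noncomputable def chiMap (χ : (ZMod p)ˣ →* Rˣ) : (ZMod p)ˣ →* Sˣ :=
  (Units.map (algebraMap R S).toMonoidHom).comp χ

lemma chiMap_apply (m : (ZMod p)ˣ) :
    ((chiMap S χ m : Sˣ) : S) = algebraMap R S ((χ m : Rˣ) : R) := rfl

lemma chiMap_isUnit (hχ : ∀ m : (ZMod p)ˣ, m ≠ 1 → IsUnit ((χ m : R) - 1)) :
    ∀ m : (ZMod p)ˣ, m ≠ 1 → IsUnit ((chiMap S χ m : S) - 1) := fun m hm => by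
  rw [chiMap_apply, ← map_one (algebraMap R S), ← map_sub]
  exact (hχ m hm).map _

lemma map_u (hu : u' * ((p - 1 : ℕ) : R) = 1) :
    algebraMap R S u' * ((p - 1 : ℕ) : S) = 1 := by
  rw [← map_natCast (algebraMap R S), ← map_mul, hu, map_one]

lemma powConv_one_tmul (n : ℕ) (a : A) :
    powConv S (S ⊗[R] A) n (1 ⊗ₜ[R] a) = 1 ⊗ₜ[R] powConv R A n a :=
  powId_one_tmul n a

lemma proj_one_tmul (i : ℕ) (a : A) :
    OortTate.proj S (S ⊗[R] A) p (algebraMap R S u') (chiMap S χ) i (1 ⊗ₜ[R] a) =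
      1 ⊗ₜ[R] OortTate.proj R A p u' χ i a := by
  simp only [OortTate.proj, LinearMap.smul_apply, LinearMap.sum_apply, AlgHom.toLinearMap_apply,
    powConv_one_tmul, chiMap_apply, ← map_pow, algebraMap_smul, ← TensorProduct.tmul_smul,
    ← TensorProduct.tmul_sum]

lemma one_tmul_mem (i : ℕ) {a : A} (ha : a ∈ OortTate.eigenAug R A p χ i) :
    (1 : S) ⊗ₜ[R] a ∈ OortTate.eigenAug S (S ⊗[R] A) p (chiMap S χ) i := by
  rw [mem_eigenAug] at ha ⊢
  refine ⟨by rw [counit_one_tmul S a, ha.1, map_zero], fun m => ?_⟩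
  rw [powConv_one_tmul, ha.2 m, chiMap_apply, ← map_pow, algebraMap_smul, TensorProduct.tmul_smul]

lemma eigenAug_baseChange_le (hp : (toConv (AlgHom.id R A)) ^ p = 1)
    (hχ : ∀ m : (ZMod p)ˣ, m ≠ 1 → IsUnit ((χ m : R) - 1)) (hu : u' * ((p - 1 : ℕ) : R) = 1)
    (i : ℕ) :
    OortTate.eigenAug S (S ⊗[R] A) p (chiMap S χ) i ≤
      Submodule.span S ((fun a : A => (1 : S) ⊗ₜ[R] a) '' (OortTate.eigenAug R A p χ i)) := by
  intro f hf
  have hproj := proj_of_mem (i := i) (chiMap_isUnit S hχ) (map_u S hu) hf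
  rw [if_pos rfl, one_smul] at hproj
  have hε := ((mem_eigenAug _).1 hf).1
  have key : ∀ g : S ⊗[R] A, OortTate.proj S (S ⊗[R] A) p (algebraMap R S u') (chiMap S χ) i
      (g - algebraMap S (S ⊗[R] A) (counit g)) ∈
      Submodule.span S ((fun a : A => (1 : S) ⊗ₜ[R] a) '' (OortTate.eigenAug R A p χ i)) := by
    intro g
    induction g using TensorProduct.induction_on with
    | zero => simp
    | add g g' hg hg' =>
      rw [map_add, map_add, add_sub_add_comm, map_add]
      exact add_mem hg hg'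
    | tmul s a =>
      have e : s ⊗ₜ[R] a - algebraMap S (S ⊗[R] A) (counit (R := S) (s ⊗ₜ[R] a)) =
          s • ((1 : S) ⊗ₜ[R] (a - algebraMap R A (counit (R := R) a))) := by
        rw [TensorProduct.counit_tmul, CommSemiring.counit_apply, Algebra.TensorProduct.algebraMap_apply,
          Algebra.algebraMap_self, RingHom.id_apply, TensorProduct.smul_tmul' s (1 : S), smul_eq_mul,
          mul_one, TensorProduct.tmul_sub, Algebra.algebraMap_eq_smul_one, TensorProduct.tmul_smul,
          TensorProduct.smul_tmul']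
      rw [e, map_smul, proj_one_tmul]
      refine Submodule.smul_mem _ _ (Submodule.subset_span ⟨_, proj_mem hp χ u' i ?_, rfl⟩)
      simp
  have := key f
  rwa [hε, map_zero, sub_zero, hproj] at this

end BaseChange

section Local

variable {R : Type u} [CommRing R] [IsLocalRing R] {A : Type u} [CommRing A] [HopfAlgebra R A]
  (b : Module.Basis (Fin p) R A) {χ : (ZMod p)ˣ →* Rˣ} {u' : R}
  (hχ : ∀ m : (ZMod p)ˣ, m ≠ 1 → IsUnit ((χ m : R) - 1)) (hu : u' * ((p - 1 : ℕ) : R) = 1)
  (hχp : ∀ m : (ZMod p)ˣ, ((χ m : Rˣ) : R) - (((m : ZMod p).val : ℕ) : R) ∈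
    Ideal.span ({(p : R)} : Set R))

include b hχ hu hχp in
theorem exists_gen_local :
    ∃ y ∈ OortTate.eigenAug R A p χ 1,
      LinearIndependent R (fun i : Fin p => y ^ (i : ℕ)) ∧
        Submodule.span R (Set.range fun i : Fin p => y ^ (i : ℕ)) = ⊤ := by
  classical
  let K := AlgebraicClosure (IsLocalRing.ResidueField R)
  haveI : Module.Finite R A := Module.Finite.of_basis b
  haveI : Module.Free R A := Module.Free.of_basis b
  have hp := killed_of_basis b
  have hdim : Module.finrank K (K ⊗[R] A) = p := by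
    rw [Module.finrank_baseChange, Module.finrank_eq_card_basis b, Fintype.card_fin]
  have hχK : CharP K p → ∀ m : (ZMod p)ˣ,
      ((chiMap K χ m : Kˣ) : K) = (((m : ZMod p).val : ℕ) : K) := by
    intro hK m
    obtain ⟨r, hr⟩ := Ideal.mem_span_singleton'.1 (hχp m)
    have h := congrArg (algebraMap R K) hr
    rw [map_mul, map_natCast, CharP.cast_eq_zero, mul_zero, map_sub, map_natCast, eq_comm,
      sub_eq_zero] at h
    exact h
  obtain ⟨z, hz, hzne⟩ := exists_eigen_gen_field hdim (chiMap_isUnit K hχ) (map_u K hu) hχK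
  have hind := indep_pow_of_field (chiMap_isUnit K hχ) (map_u K hu) hz (Field.toIsField K) hzne
  haveI : Nonempty (Fin p) := ⟨⟨0, hpF.out.pos⟩⟩
  let Bz := basisOfLinearIndependentOfCardEqFinrank hind (by rw [Fintype.card_fin, hdim])
  have h1p := hpF.out.one_lt
  obtain ⟨hspan, -⟩ := eigenAug_eq_span_of_basis (chiMap_isUnit K hχ) (map_u K hu) hz Bz
    (fun i => by simp [Bz]) le_rfl (by omega)
  obtain ⟨y, hy, hyne⟩ : ∃ y ∈ OortTate.eigenAug R A p χ 1, (1 : K) ⊗ₜ[R] y ≠ 0 := by
    by_contra hc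
    push Not at hc
    have hz0 : z ∈ (⊥ : Submodule K (K ⊗[R] A)) := by
      refine (Submodule.span_le.2 ?_) (eigenAug_baseChange_le K hp hχ hu 1 hz)
      rintro _ ⟨a, ha, rfl⟩
      exact hc a ha
    rw [Submodule.mem_bot] at hz0
    exact hzne (by rw [hz0, zero_pow (by omega)])
  refine ⟨y, hy, ?_⟩
  obtain ⟨c, hc⟩ : ∃ c : K, c • z = (1 : K) ⊗ₜ[R] y := by
    have := one_tmul_mem K 1 hy
    rwa [hspan, pow_one, Submodule.mem_span_singleton] at this
  have hc0 : c ≠ 0 := fun h => hyne (by rw [← hc, h, zero_smul])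
  have hyK : ((1 : K) ⊗ₜ[R] y) ^ (p - 1) ≠ 0 := by
    rw [← hc, smul_pow]
    exact smul_ne_zero (pow_ne_zero _ hc0) hzne
  have hindy := indep_pow_of_field (chiMap_isUnit K hχ) (map_u K hu) (one_tmul_mem K 1 hy)
    (Field.toIsField K) hyK
  rw [Module.Basis.is_basis_iff_det b]
  have hK : IsUnit ((b.baseChange K).det fun i : Fin p => ((1 : K) ⊗ₜ[R] y) ^ (i : ℕ)) :=
    (Module.Basis.is_basis_iff_det _).1
      ⟨hindy, hindy.span_eq_top_of_card_eq_finrank (by rw [Fintype.card_fin, hdim])⟩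
  have hmap : ((b.baseChange K).det fun i : Fin p => ((1 : K) ⊗ₜ[R] y) ^ (i : ℕ)) =
      algebraMap R K (b.det fun i : Fin p => y ^ (i : ℕ)) := by
    rw [Module.Basis.det_apply, Module.Basis.det_apply, RingHom.map_det]
    congr 1
    ext i j
    rw [Module.Basis.toMatrix_apply, Algebra.TensorProduct.tmul_pow, one_pow,
      Module.Basis.baseChange_repr_tmul, RingHom.mapMatrix_apply, Matrix.map_apply,
      Module.Basis.toMatrix_apply, Algebra.algebraMap_eq_smul_one]
  rw [hmap, isUnit_iff_ne_zero] at hK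
  by_contra hnu
  apply hK
  rw [IsScalarTower.algebraMap_apply R (IsLocalRing.ResidueField R) K,
    show algebraMap R (IsLocalRing.ResidueField R) _ = 0 from
      (IsLocalRing.residue_eq_zero_iff _).2 hnu, map_zero]

end Local

section Global

variable {R : Type u} [CommRing R] {A : Type u} [CommRing A] [HopfAlgebra R A] [Module.Finite R A]
  [Module.Projective R A] (hrk : ∀ q : PrimeSpectrum R, Module.rankAtStalk A q = p)
  {χ : (ZMod p)ˣ →* Rˣ} {u' : R}
  (hχ : ∀ m : (ZMod p)ˣ, m ≠ 1 → IsUnit ((χ m : R) - 1)) (hu : u' * ((p - 1 : ℕ) : R) = 1)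
  (hχp : ∀ m : (ZMod p)ˣ, ((χ m : Rˣ) : R) - (((m : ZMod p).val : ℕ) : R) ∈
    Ideal.span ({(p : R)} : Set R))

include hrk hχ hu hχp in
theorem exists_gen_localization (q : PrimeSpectrum R) :
    ∃ y ∈ OortTate.eigenAug (Localization.AtPrime q.asIdeal)
        (Localization.AtPrime q.asIdeal ⊗[R] A) p (chiMap (Localization.AtPrime q.asIdeal) χ) 1,
      ∃ B : Module.Basis (Fin p) (Localization.AtPrime q.asIdeal)
          (Localization.AtPrime q.asIdeal ⊗[R] A), ∀ i, B i = y ^ (i : ℕ) := by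
  let S := Localization.AtPrime q.asIdeal
  haveI : Module.Free S (S ⊗[R] A) := Module.free_of_flat_of_isLocalRing
  have hr : Module.finrank S (S ⊗[R] A) = p := by
    rw [← Module.rankAtStalk_eq_finrank_tensorProduct q, hrk]
  have hχp' : ∀ m : (ZMod p)ˣ, ((chiMap S χ m : Sˣ) : S) - (((m : ZMod p).val : ℕ) : S) ∈
      Ideal.span ({(p : S)} : Set S) := by
    intro m
    obtain ⟨r, hr⟩ := Ideal.mem_span_singleton'.1 (hχp m)
    refine Ideal.mem_span_singleton'.2 ⟨algebraMap R S r, ?_⟩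
    rw [chiMap_apply, ← map_natCast (algebraMap R S) p, ← map_mul, hr, map_sub, map_natCast]
  obtain ⟨y, hy, hli, hsp⟩ := exists_gen_local (Module.finBasisOfFinrankEq S (S ⊗[R] A) hr)
    (chiMap_isUnit S hχ) (map_u S hu) hχp'
  exact ⟨y, hy, Module.Basis.mk hli hsp.ge, fun i => by simp⟩

/-- The representative of `i` in `1, …, p - 1`. -/
def red (p i : ℕ) : ℕ := if i % (p - 1) = 0 then p - 1 else i % (p - 1)

lemma red_spec (i : ℕ) : 1 ≤ red p i ∧ red p i ≤ p - 1 ∧ red p i % (p - 1) = i % (p - 1) := by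
  have hq : 0 < p - 1 := Nat.sub_pos_of_lt hpF.out.one_lt
  have := Nat.mod_lt i hq
  unfold red
  split_ifs with h
  · exact ⟨hq, le_rfl, by rw [Nat.mod_self, h]⟩
  · exact ⟨by omega, by omega, Nat.mod_mod _ _⟩

include hrk hχ hu hχp in
theorem eigenAug_rank (i : ℕ) :
    Module.Finite R (OortTate.eigenAug R A p χ i) ∧
      Module.Projective R (OortTate.eigenAug R A p χ i) ∧
        ∀ q : PrimeSpectrum R, Module.rankAtStalk (↥(OortTate.eigenAug R A p χ i)) q = 1 := by
  have hp := killed_of_rank hrk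
  let π : A →ₗ[R] A := (OortTate.proj R A p u' χ i) ∘ₗ
    (LinearMap.id - Algebra.linearMap R A ∘ₗ counit)
  have hπ : ∀ a, π a ∈ OortTate.eigenAug R A p χ i := fun a => proj_mem hp χ u' i (by simp)
  let π' : A →ₗ[R] OortTate.eigenAug R A p χ i := LinearMap.codRestrict _ π hπ
  have hsplit : π' ∘ₗ (OortTate.eigenAug R A p χ i).subtype = LinearMap.id := by
    refine LinearMap.ext fun f => Subtype.ext ?_
    show OortTate.proj R A p u' χ i ((f : A) - algebraMap R A (counit (f : A))) = f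
    rw [((mem_eigenAug χ).1 f.2).1, map_zero, sub_zero, proj_of_mem hχ hu f.2, if_pos rfl, one_smul]
  have hfin : Module.Finite R (OortTate.eigenAug R A p χ i) :=
    Module.Finite.of_surjective π' fun f => ⟨f, LinearMap.congr_fun hsplit f⟩
  have hproj : Module.Projective R (OortTate.eigenAug R A p χ i) :=
    Module.Projective.of_split (OortTate.eigenAug R A p χ i).subtype π' hsplit
  refine ⟨hfin, hproj, fun q => ?_⟩
  rw [Module.rankAtStalk_eq_finrank_tensorProduct]
  let S := Localization.AtPrime q.asIdeal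
  let l := (OortTate.eigenAug R A p χ i).subtype.baseChange S
  have hl : Function.Injective l := by
    intro a c h
    have := congrArg (π'.baseChange S) h
    rw [← LinearMap.comp_apply, ← LinearMap.comp_apply, ← LinearMap.baseChange_comp, hsplit,
      LinearMap.baseChange_id] at this
    exact this
  obtain ⟨y, hy, B, hB⟩ := exists_gen_localization hrk hχ hu hχp q
  obtain ⟨h1, h2, h3⟩ := red_spec (p := p) i
  obtain ⟨hspan, hfree⟩ := eigenAug_eq_span_of_basis (chiMap_isUnit S hχ) (map_u S hu) hy B hB h1 h2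
  rw [eigenAug_mod, h3, ← eigenAug_mod] at hspan
  have hrange : LinearMap.range l = Submodule.span S {y ^ red p i} := by
    rw [← hspan]
    refine le_antisymm ?_ ((eigenAug_baseChange_le S hp hχ hu i).trans ?_)
    · rintro _ ⟨t, rfl⟩
      induction t using TensorProduct.induction_on with
      | zero => simp
      | add t t' ht ht' => rw [map_add]; exact add_mem ht ht'
      | tmul s a =>
        rw [show s ⊗ₜ[R] a = s • ((1 : S) ⊗ₜ[R] a) by rw [TensorProduct.smul_tmul', smul_eq_mul, mul_one],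
          map_smul]
        exact Submodule.smul_mem _ _ (one_tmul_mem S i a.2)
    · rw [Submodule.span_le]
      rintro _ ⟨a, ha, rfl⟩
      exact ⟨1 ⊗ₜ ⟨a, ha⟩, rfl⟩
  let e1 : S ≃ₗ[S] Submodule.span S {y ^ red p i} :=
    (LinearEquiv.ofInjective (LinearMap.toSpanSingleton S _ (y ^ red p i))
      ((injective_iff_map_eq_zero _).2 hfree)).trans
      (LinearEquiv.ofEq _ _ (LinearMap.range_toSpanSingleton _))
  rw [(((LinearEquiv.ofInjective l hl).trans (LinearEquiv.ofEq _ _ hrange)).trans e1.symm).finrank_eq,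
    Module.finrank_self]

include hrk hχ hu hχp in
theorem eigenAug_pow {t : ℕ} (ht : 1 ≤ t) (ht' : t ≤ p - 1) :
    (OortTate.eigenAug R A p χ 1) ^ t = OortTate.eigenAug R A p χ t := by
  have hle : ∀ n, (OortTate.eigenAug R A p χ 1) ^ (n + 1) ≤ OortTate.eigenAug R A p χ (n + 1) := by
    intro n
    induction n with
    | zero => simp
    | succ n ih =>
      rw [pow_succ, Submodule.mul_le]
      exact fun a ha c hc => mul_mem_eigenAug (ih ha) hc
  refine le_antisymm ?_ ?_
  · obtain ⟨n, rfl⟩ : ∃ n, t = n + 1 := ⟨t - 1, by omega⟩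
    exact hle n
  intro a ha
  rw [← Submodule.Quotient.mk_eq_zero]
  set N := (OortTate.eigenAug R A p χ 1) ^ t with hN
  refine Module.eq_of_localization_maximal
    (fun m [m.IsMaximal] => Localization.AtPrime m ⊗[R] (A ⧸ N))
    (fun m [m.IsMaximal] => TensorProduct.mk R (Localization.AtPrime m) (A ⧸ N) 1) _ _
    fun m hm => ?_
  let S := Localization.AtPrime m
  have hp := killed_of_rank hrk
  obtain ⟨y, hy, B, hB⟩ := exists_gen_localization hrk hχ hu hχp ⟨m, inferInstance⟩
  obtain ⟨hspan, -⟩ := eigenAug_eq_span_of_basis (chiMap_isUnit S hχ) (map_u S hu) hy B hB ht ht'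
  let P : Submodule S (S ⊗[R] A) :=
    Submodule.span S ((fun a : A => (1 : S) ⊗ₜ[R] a) '' (N : Set A))
  have hyP : y ^ t ∈ P := by
    have h1 := Submodule.pow_mem_pow _ (eigenAug_baseChange_le S hp hχ hu 1 hy) t
    rw [Submodule.span_pow] at h1
    refine Submodule.span_mono ?_ h1
    rw [show (fun a : A => (1 : S) ⊗ₜ[R] a) =
      ⇑(Algebra.TensorProduct.includeRight : A →ₐ[R] S ⊗[R] A) from rfl, ← Set.image_pow]
    exact Set.image_mono (Submodule.pow_subset_pow _)
  have ha' : (1 : S) ⊗ₜ[R] a ∈ P := by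
    have := one_tmul_mem S t ha
    rw [hspan] at this
    exact (Submodule.span_le.2 (Set.singleton_subset_iff.2 hyP)) this
  have hkill : P ≤ LinearMap.ker (N.mkQ.baseChange S) := by
    rw [Submodule.span_le]
    rintro _ ⟨c, hc, rfl⟩
    rw [SetLike.mem_coe, LinearMap.mem_ker, LinearMap.baseChange_tmul, Submodule.mkQ_apply,
      (Submodule.Quotient.mk_eq_zero _).2 hc, TensorProduct.tmul_zero]
  show (1 : S) ⊗ₜ[R] Submodule.Quotient.mk a = (1 : S) ⊗ₜ[R] (0 : A ⧸ N)
  rw [TensorProduct.tmul_zero, ← LinearMap.mem_ker.1 (hkill ha'), LinearMap.baseChange_tmul,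
    Submodule.mkQ_apply]

end Global

end Groth.Agent.OT
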